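import Mathlib
import Cfsg.Agent.TcData.LyMT.Lits


set_option autoImplicit false
set_option Elab.async false
set_option maxRecDepth 100000
set_option linter.all false
set_option maxHeartbeats 0

namespace Cfsg.Agent.TcData.LyMT

open Cfsg.Spor.Ly Cfsg.Agent.Lib.LyDce Cfsg.Agent.Lib.FpVec Cfsg.Agent.Lib.LyV111 Cfsg.Agent.Lib.LyMultB

theorem w19_0 : ∀ i, i < 16 → WP [C129,C136] [Cfsg.Agent.TcData.Ly.Syl.U.X381,C134,C134,C136,C136,C138,C138,C140,C129] (i + 0) := by decide +kernel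

theorem w19_16 : ∀ i, i < 16 → WP [C129,C136] [Cfsg.Agent.TcData.Ly.Syl.U.X381,C134,C134,C136,C136,C138,C138,C140,C129] (i + 16) := by decide +kernel

theorem w19_32 : ∀ i, i < 16 → WP [C129,C136] [Cfsg.Agent.TcData.Ly.Syl.U.X381,C134,C134,C136,C136,C138,C138,C140,C129] (i + 32) := by decide +kernel

theorem w19_48 : ∀ i, i < 16 → WP [C129,C136] [Cfsg.Agent.TcData.Ly.Syl.U.X381,C134,C134,C136,C136,C138,C138,C140,C129] (i + 48) := by decide +kernel

theorem w19_64 : ∀ i, i < 16 → WP [C129,C136] [Cfsg.Agent.TcData.Ly.Syl.U.X381,C134,C134,C136,C136,C138,C138,C140,C129] (i + 64) := by decide +kernel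

theorem w19_80 : ∀ i, i < 16 → WP [C129,C136] [Cfsg.Agent.TcData.Ly.Syl.U.X381,C134,C134,C136,C136,C138,C138,C140,C129] (i + 80) := by decide +kernel

theorem w19_96 : ∀ i, i < 15 → WP [C129,C136] [Cfsg.Agent.TcData.Ly.Syl.U.X381,C134,C134,C136,C136,C138,C138,C140,C129] (i + 96) := by decide +kernel

theorem w4_0 : ∀ i, i < 16 → WP [Cfsg.Agent.TcData.Ly.Syl.U.X381,C140] [C140,Cfsg.Agent.TcData.Ly.Syl.U.X381] (i + 0) := by decide +kernel

theorem w4_16 : ∀ i, i < 16 → WP [Cfsg.Agent.TcData.Ly.Syl.U.X381,C140] [C140,Cfsg.Agent.TcData.Ly.Syl.U.X381] (i + 16) := by decide +kernel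

theorem w4_32 : ∀ i, i < 16 → WP [Cfsg.Agent.TcData.Ly.Syl.U.X381,C140] [C140,Cfsg.Agent.TcData.Ly.Syl.U.X381] (i + 32) := by decide +kernel

theorem w4_48 : ∀ i, i < 16 → WP [Cfsg.Agent.TcData.Ly.Syl.U.X381,C140] [C140,Cfsg.Agent.TcData.Ly.Syl.U.X381] (i + 48) := by decide +kernel

theorem w4_64 : ∀ i, i < 16 → WP [Cfsg.Agent.TcData.Ly.Syl.U.X381,C140] [C140,Cfsg.Agent.TcData.Ly.Syl.U.X381] (i + 64) := by decide +kernel

theorem w4_80 : ∀ i, i < 16 → WP [Cfsg.Agent.TcData.Ly.Syl.U.X381,C140] [C140,Cfsg.Agent.TcData.Ly.Syl.U.X381] (i + 80) := by decide +kernel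

theorem w4_96 : ∀ i, i < 15 → WP [Cfsg.Agent.TcData.Ly.Syl.U.X381,C140] [C140,Cfsg.Agent.TcData.Ly.Syl.U.X381] (i + 96) := by decide +kernel

theorem w5_0 : ∀ i, i < 16 → WP [C99,C99] [] (i + 0) := by decide +kernel

theorem w5_16 : ∀ i, i < 16 → WP [C99,C99] [] (i + 16) := by decide +kernel

theorem w5_32 : ∀ i, i < 16 → WP [C99,C99] [] (i + 32) := by decide +kernel

theorem w5_48 : ∀ i, i < 16 → WP [C99,C99] [] (i + 48) := by decide +kernel

theorem w5_64 : ∀ i, i < 16 → WP [C99,C99] [] (i + 64) := by decide +kernel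

theorem w5_80 : ∀ i, i < 16 → WP [C99,C99] [] (i + 80) := by decide +kernel

theorem w5_96 : ∀ i, i < 15 → WP [C99,C99] [] (i + 96) := by decide +kernel

theorem c12_0 : ∀ i, i < 16 → Px Cfsg.Agent.TcData.Ly.Syl.U.X672 Cfsg.Agent.TcData.Ly.Syl.U.X561 C12 (i + 0) := by decide +kernel

theorem c12_16 : ∀ i, i < 16 → Px Cfsg.Agent.TcData.Ly.Syl.U.X672 Cfsg.Agent.TcData.Ly.Syl.U.X561 C12 (i + 16) := by decide +kernel

theorem c12_32 : ∀ i, i < 16 → Px Cfsg.Agent.TcData.Ly.Syl.U.X672 Cfsg.Agent.TcData.Ly.Syl.U.X561 C12 (i + 32) := by decide +kernel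

theorem c12_48 : ∀ i, i < 16 → Px Cfsg.Agent.TcData.Ly.Syl.U.X672 Cfsg.Agent.TcData.Ly.Syl.U.X561 C12 (i + 48) := by decide +kernel

theorem c12_64 : ∀ i, i < 16 → Px Cfsg.Agent.TcData.Ly.Syl.U.X672 Cfsg.Agent.TcData.Ly.Syl.U.X561 C12 (i + 64) := by decide +kernel

theorem c12_80 : ∀ i, i < 16 → Px Cfsg.Agent.TcData.Ly.Syl.U.X672 Cfsg.Agent.TcData.Ly.Syl.U.X561 C12 (i + 80) := by decide +kernel

theorem c12_96 : ∀ i, i < 15 → Px Cfsg.Agent.TcData.Ly.Syl.U.X672 Cfsg.Agent.TcData.Ly.Syl.U.X561 C12 (i + 96) := by decide +kernel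

theorem c14_0 : ∀ i, i < 16 → Px C13 Cfsg.Agent.TcData.Ly.Syl.U.X672 C14 (i + 0) := by decide +kernel

theorem c14_16 : ∀ i, i < 16 → Px C13 Cfsg.Agent.TcData.Ly.Syl.U.X672 C14 (i + 16) := by decide +kernel

theorem c14_32 : ∀ i, i < 16 → Px C13 Cfsg.Agent.TcData.Ly.Syl.U.X672 C14 (i + 32) := by decide +kernel

theorem c14_48 : ∀ i, i < 16 → Px C13 Cfsg.Agent.TcData.Ly.Syl.U.X672 C14 (i + 48) := by decide +kernel

theorem c14_64 : ∀ i, i < 16 → Px C13 Cfsg.Agent.TcData.Ly.Syl.U.X672 C14 (i + 64) := by decide +kernel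

theorem c14_80 : ∀ i, i < 16 → Px C13 Cfsg.Agent.TcData.Ly.Syl.U.X672 C14 (i + 80) := by decide +kernel

theorem c14_96 : ∀ i, i < 15 → Px C13 Cfsg.Agent.TcData.Ly.Syl.U.X672 C14 (i + 96) := by decide +kernel

theorem c22_0 : ∀ i, i < 16 → Px C21 Cfsg.Agent.TcData.Ly.Syl.U.X381 C22 (i + 0) := by decide +kernel

theorem c22_16 : ∀ i, i < 16 → Px C21 Cfsg.Agent.TcData.Ly.Syl.U.X381 C22 (i + 16) := by decide +kernel

theorem c22_32 : ∀ i, i < 16 → Px C21 Cfsg.Agent.TcData.Ly.Syl.U.X381 C22 (i + 32) := by decide +kernel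

theorem c22_48 : ∀ i, i < 16 → Px C21 Cfsg.Agent.TcData.Ly.Syl.U.X381 C22 (i + 48) := by decide +kernel

theorem c22_64 : ∀ i, i < 16 → Px C21 Cfsg.Agent.TcData.Ly.Syl.U.X381 C22 (i + 64) := by decide +kernel

theorem c22_80 : ∀ i, i < 16 → Px C21 Cfsg.Agent.TcData.Ly.Syl.U.X381 C22 (i + 80) := by decide +kernel

theorem c22_96 : ∀ i, i < 15 → Px C21 Cfsg.Agent.TcData.Ly.Syl.U.X381 C22 (i + 96) := by decide +kernel

theorem c30_0 : ∀ i, i < 16 → Px C29 C28 C30 (i + 0) := by decide +kernel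

theorem c30_16 : ∀ i, i < 16 → Px C29 C28 C30 (i + 16) := by decide +kernel

theorem c30_32 : ∀ i, i < 16 → Px C29 C28 C30 (i + 32) := by decide +kernel

theorem c30_48 : ∀ i, i < 16 → Px C29 C28 C30 (i + 48) := by decide +kernel

theorem c30_64 : ∀ i, i < 16 → Px C29 C28 C30 (i + 64) := by decide +kernel

theorem c30_80 : ∀ i, i < 16 → Px C29 C28 C30 (i + 80) := by decide +kernel

theorem c30_96 : ∀ i, i < 15 → Px C29 C28 C30 (i + 96) := by decide +kernel

theorem c38_0 : ∀ i, i < 16 → Px C37 C25 C38 (i + 0) := by decide +kernel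

theorem c38_16 : ∀ i, i < 16 → Px C37 C25 C38 (i + 16) := by decide +kernel

theorem c38_32 : ∀ i, i < 16 → Px C37 C25 C38 (i + 32) := by decide +kernel

theorem c38_48 : ∀ i, i < 16 → Px C37 C25 C38 (i + 48) := by decide +kernel

theorem c38_64 : ∀ i, i < 16 → Px C37 C25 C38 (i + 64) := by decide +kernel

theorem c38_80 : ∀ i, i < 16 → Px C37 C25 C38 (i + 80) := by decide +kernel

theorem c38_96 : ∀ i, i < 15 → Px C37 C25 C38 (i + 96) := by decide +kernel

theorem c46_0 : ∀ i, i < 16 → Qx C44 C46 (i + 0) := by decide +kernel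

theorem c46_16 : ∀ i, i < 16 → Qx C44 C46 (i + 16) := by decide +kernel

theorem c46_32 : ∀ i, i < 16 → Qx C44 C46 (i + 32) := by decide +kernel

theorem c46_48 : ∀ i, i < 16 → Qx C44 C46 (i + 48) := by decide +kernel

theorem c46_64 : ∀ i, i < 16 → Qx C44 C46 (i + 64) := by decide +kernel

theorem c46_80 : ∀ i, i < 16 → Qx C44 C46 (i + 80) := by decide +kernel

theorem c46_96 : ∀ i, i < 15 → Qx C44 C46 (i + 96) := by decide +kernel

theorem c54_0 : ∀ i, i < 16 → Px C53 C25 C54 (i + 0) := by decide +kernel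

theorem c54_16 : ∀ i, i < 16 → Px C53 C25 C54 (i + 16) := by decide +kernel

theorem c54_32 : ∀ i, i < 16 → Px C53 C25 C54 (i + 32) := by decide +kernel

theorem c54_48 : ∀ i, i < 16 → Px C53 C25 C54 (i + 48) := by decide +kernel

theorem c54_64 : ∀ i, i < 16 → Px C53 C25 C54 (i + 64) := by decide +kernel

theorem c54_80 : ∀ i, i < 16 → Px C53 C25 C54 (i + 80) := by decide +kernel

theorem c54_96 : ∀ i, i < 15 → Px C53 C25 C54 (i + 96) := by decide +kernel

theorem c63_0 : ∀ i, i < 16 → Px C62 (M .b) C63 (i + 0) := by decide +kernel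

theorem c63_16 : ∀ i, i < 16 → Px C62 (M .b) C63 (i + 16) := by decide +kernel

theorem c63_32 : ∀ i, i < 16 → Px C62 (M .b) C63 (i + 32) := by decide +kernel

theorem c63_48 : ∀ i, i < 16 → Px C62 (M .b) C63 (i + 48) := by decide +kernel

theorem c63_64 : ∀ i, i < 16 → Px C62 (M .b) C63 (i + 64) := by decide +kernel

theorem c63_80 : ∀ i, i < 16 → Px C62 (M .b) C63 (i + 80) := by decide +kernel

theorem c63_96 : ∀ i, i < 15 → Px C62 (M .b) C63 (i + 96) := by decide +kernel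

theorem c71_0 : ∀ i, i < 16 → Px C70 C30 C71 (i + 0) := by decide +kernel

theorem c71_16 : ∀ i, i < 16 → Px C70 C30 C71 (i + 16) := by decide +kernel

theorem c71_32 : ∀ i, i < 16 → Px C70 C30 C71 (i + 32) := by decide +kernel

theorem c71_48 : ∀ i, i < 16 → Px C70 C30 C71 (i + 48) := by decide +kernel

theorem c71_64 : ∀ i, i < 16 → Px C70 C30 C71 (i + 64) := by decide +kernel

theorem c71_80 : ∀ i, i < 16 → Px C70 C30 C71 (i + 80) := by decide +kernel

theorem c71_96 : ∀ i, i < 15 → Px C70 C30 C71 (i + 96) := by decide +kernel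

theorem c79_0 : ∀ i, i < 16 → Px C78 (M .a) C79 (i + 0) := by decide +kernel

theorem c79_16 : ∀ i, i < 16 → Px C78 (M .a) C79 (i + 16) := by decide +kernel

theorem c79_32 : ∀ i, i < 16 → Px C78 (M .a) C79 (i + 32) := by decide +kernel

theorem c79_48 : ∀ i, i < 16 → Px C78 (M .a) C79 (i + 48) := by decide +kernel

theorem c79_64 : ∀ i, i < 16 → Px C78 (M .a) C79 (i + 64) := by decide +kernel

theorem c79_80 : ∀ i, i < 16 → Px C78 (M .a) C79 (i + 80) := by decide +kernel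

theorem c79_96 : ∀ i, i < 15 → Px C78 (M .a) C79 (i + 96) := by decide +kernel

theorem c87_0 : ∀ i, i < 16 → Px C86 (I .b) C87 (i + 0) := by decide +kernel

theorem c87_16 : ∀ i, i < 16 → Px C86 (I .b) C87 (i + 16) := by decide +kernel

theorem c87_32 : ∀ i, i < 16 → Px C86 (I .b) C87 (i + 32) := by decide +kernel

theorem c87_48 : ∀ i, i < 16 → Px C86 (I .b) C87 (i + 48) := by decide +kernel

theorem c87_64 : ∀ i, i < 16 → Px C86 (I .b) C87 (i + 64) := by decide +kernel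

theorem c87_80 : ∀ i, i < 16 → Px C86 (I .b) C87 (i + 80) := by decide +kernel

theorem c87_96 : ∀ i, i < 15 → Px C86 (I .b) C87 (i + 96) := by decide +kernel

theorem c95_0 : ∀ i, i < 16 → Px C94 C88 C95 (i + 0) := by decide +kernel

theorem c95_16 : ∀ i, i < 16 → Px C94 C88 C95 (i + 16) := by decide +kernel

theorem c95_32 : ∀ i, i < 16 → Px C94 C88 C95 (i + 32) := by decide +kernel

theorem c95_48 : ∀ i, i < 16 → Px C94 C88 C95 (i + 48) := by decide +kernel

theorem c95_64 : ∀ i, i < 16 → Px C94 C88 C95 (i + 64) := by decide +kernel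

theorem c95_80 : ∀ i, i < 16 → Px C94 C88 C95 (i + 80) := by decide +kernel

theorem c95_96 : ∀ i, i < 15 → Px C94 C88 C95 (i + 96) := by decide +kernel

theorem c103_0 : ∀ i, i < 16 → Px C102 C47 C103 (i + 0) := by decide +kernel

theorem c103_16 : ∀ i, i < 16 → Px C102 C47 C103 (i + 16) := by decide +kernel

theorem c103_32 : ∀ i, i < 16 → Px C102 C47 C103 (i + 32) := by decide +kernel

theorem c103_48 : ∀ i, i < 16 → Px C102 C47 C103 (i + 48) := by decide +kernel

theorem c103_64 : ∀ i, i < 16 → Px C102 C47 C103 (i + 64) := by decide +kernel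

theorem c103_80 : ∀ i, i < 16 → Px C102 C47 C103 (i + 80) := by decide +kernel

theorem c103_96 : ∀ i, i < 15 → Px C102 C47 C103 (i + 96) := by decide +kernel

theorem c121_0 : ∀ i, i < 16 → Px C99 C119 C121 (i + 0) := by decide +kernel

theorem c121_16 : ∀ i, i < 16 → Px C99 C119 C121 (i + 16) := by decide +kernel

theorem c121_32 : ∀ i, i < 16 → Px C99 C119 C121 (i + 32) := by decide +kernel

theorem c121_48 : ∀ i, i < 16 → Px C99 C119 C121 (i + 48) := by decide +kernel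

theorem c121_64 : ∀ i, i < 16 → Px C99 C119 C121 (i + 64) := by decide +kernel

theorem c121_80 : ∀ i, i < 16 → Px C99 C119 C121 (i + 80) := by decide +kernel

theorem c121_96 : ∀ i, i < 15 → Px C99 C119 C121 (i + 96) := by decide +kernel

theorem c129_0 : ∀ i, i < 16 → Px C123 C128 C129 (i + 0) := by decide +kernel

theorem c129_16 : ∀ i, i < 16 → Px C123 C128 C129 (i + 16) := by decide +kernel

theorem c129_32 : ∀ i, i < 16 → Px C123 C128 C129 (i + 32) := by decide +kernel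

theorem c129_48 : ∀ i, i < 16 → Px C123 C128 C129 (i + 48) := by decide +kernel

theorem c129_64 : ∀ i, i < 16 → Px C123 C128 C129 (i + 64) := by decide +kernel

theorem c129_80 : ∀ i, i < 16 → Px C123 C128 C129 (i + 80) := by decide +kernel

theorem c129_96 : ∀ i, i < 15 → Px C123 C128 C129 (i + 96) := by decide +kernel

theorem c139_0 : ∀ i, i < 16 → Px C118 C138 C139 (i + 0) := by decide +kernel

theorem c139_16 : ∀ i, i < 16 → Px C118 C138 C139 (i + 16) := by decide +kernel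

theorem c139_32 : ∀ i, i < 16 → Px C118 C138 C139 (i + 32) := by decide +kernel

theorem c139_48 : ∀ i, i < 16 → Px C118 C138 C139 (i + 48) := by decide +kernel

theorem c139_64 : ∀ i, i < 16 → Px C118 C138 C139 (i + 64) := by decide +kernel

theorem c139_80 : ∀ i, i < 16 → Px C118 C138 C139 (i + 80) := by decide +kernel

theorem c139_96 : ∀ i, i < 15 → Px C118 C138 C139 (i + 96) := by decide +kernel


end Cfsg.Agent.TcData.LyMT
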