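import Mathlib
import Cfsg.Agent.TcData.LyMT.Lits


set_option autoImplicit false
set_option Elab.async false
set_option maxRecDepth 100000
set_option linter.all false
set_option maxHeartbeats 0

namespace Cfsg.Agent.TcData.LyMT

open Cfsg.Spor.Ly Cfsg.Agent.Lib.LyDce Cfsg.Agent.Lib.FpVec Cfsg.Agent.Lib.LyV111 Cfsg.Agent.Lib.LyMultB

theorem w12_0 : ∀ i, i < 16 → WP [C127,Cfsg.Agent.TcData.Ly.Syl.U.X381] [C134,C134,C136,C138,C138,C140,C140,C127] (i + 0) := by decide +kernel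

theorem w12_16 : ∀ i, i < 16 → WP [C127,Cfsg.Agent.TcData.Ly.Syl.U.X381] [C134,C134,C136,C138,C138,C140,C140,C127] (i + 16) := by decide +kernel

theorem w12_32 : ∀ i, i < 16 → WP [C127,Cfsg.Agent.TcData.Ly.Syl.U.X381] [C134,C134,C136,C138,C138,C140,C140,C127] (i + 32) := by decide +kernel

theorem w12_48 : ∀ i, i < 16 → WP [C127,Cfsg.Agent.TcData.Ly.Syl.U.X381] [C134,C134,C136,C138,C138,C140,C140,C127] (i + 48) := by decide +kernel

theorem w12_64 : ∀ i, i < 16 → WP [C127,Cfsg.Agent.TcData.Ly.Syl.U.X381] [C134,C134,C136,C138,C138,C140,C140,C127] (i + 64) := by decide +kernel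

theorem w12_80 : ∀ i, i < 16 → WP [C127,Cfsg.Agent.TcData.Ly.Syl.U.X381] [C134,C134,C136,C138,C138,C140,C140,C127] (i + 80) := by decide +kernel

theorem w12_96 : ∀ i, i < 15 → WP [C127,Cfsg.Agent.TcData.Ly.Syl.U.X381] [C134,C134,C136,C138,C138,C140,C140,C127] (i + 96) := by decide +kernel

theorem w1_0 : ∀ i, i < 16 → WP [Cfsg.Agent.TcData.Ly.Syl.U.X381,C134] [C134,Cfsg.Agent.TcData.Ly.Syl.U.X381] (i + 0) := by decide +kernel

theorem w1_16 : ∀ i, i < 16 → WP [Cfsg.Agent.TcData.Ly.Syl.U.X381,C134] [C134,Cfsg.Agent.TcData.Ly.Syl.U.X381] (i + 16) := by decide +kernel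

theorem w1_32 : ∀ i, i < 16 → WP [Cfsg.Agent.TcData.Ly.Syl.U.X381,C134] [C134,Cfsg.Agent.TcData.Ly.Syl.U.X381] (i + 32) := by decide +kernel

theorem w1_48 : ∀ i, i < 16 → WP [Cfsg.Agent.TcData.Ly.Syl.U.X381,C134] [C134,Cfsg.Agent.TcData.Ly.Syl.U.X381] (i + 48) := by decide +kernel

theorem w1_64 : ∀ i, i < 16 → WP [Cfsg.Agent.TcData.Ly.Syl.U.X381,C134] [C134,Cfsg.Agent.TcData.Ly.Syl.U.X381] (i + 64) := by decide +kernel

theorem w1_80 : ∀ i, i < 16 → WP [Cfsg.Agent.TcData.Ly.Syl.U.X381,C134] [C134,Cfsg.Agent.TcData.Ly.Syl.U.X381] (i + 80) := by decide +kernel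

theorem w1_96 : ∀ i, i < 15 → WP [Cfsg.Agent.TcData.Ly.Syl.U.X381,C134] [C134,Cfsg.Agent.TcData.Ly.Syl.U.X381] (i + 96) := by decide +kernel

theorem w6_0 : ∀ i, i < 16 → WP [C99,Cfsg.Agent.TcData.Ly.Syl.U.X381,C99,Cfsg.Agent.TcData.Ly.Syl.U.X381] [] (i + 0) := by decide +kernel

theorem w6_16 : ∀ i, i < 16 → WP [C99,Cfsg.Agent.TcData.Ly.Syl.U.X381,C99,Cfsg.Agent.TcData.Ly.Syl.U.X381] [] (i + 16) := by decide +kernel

theorem w6_32 : ∀ i, i < 16 → WP [C99,Cfsg.Agent.TcData.Ly.Syl.U.X381,C99,Cfsg.Agent.TcData.Ly.Syl.U.X381] [] (i + 32) := by decide +kernel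

theorem w6_48 : ∀ i, i < 16 → WP [C99,Cfsg.Agent.TcData.Ly.Syl.U.X381,C99,Cfsg.Agent.TcData.Ly.Syl.U.X381] [] (i + 48) := by decide +kernel

theorem w6_64 : ∀ i, i < 16 → WP [C99,Cfsg.Agent.TcData.Ly.Syl.U.X381,C99,Cfsg.Agent.TcData.Ly.Syl.U.X381] [] (i + 64) := by decide +kernel

theorem w6_80 : ∀ i, i < 16 → WP [C99,Cfsg.Agent.TcData.Ly.Syl.U.X381,C99,Cfsg.Agent.TcData.Ly.Syl.U.X381] [] (i + 80) := by decide +kernel

theorem w6_96 : ∀ i, i < 15 → WP [C99,Cfsg.Agent.TcData.Ly.Syl.U.X381,C99,Cfsg.Agent.TcData.Ly.Syl.U.X381] [] (i + 96) := by decide +kernel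

theorem c15_0 : ∀ i, i < 16 → Px C14 Cfsg.Agent.TcData.Ly.Syl.U.X381 C15 (i + 0) := by decide +kernel

theorem c15_16 : ∀ i, i < 16 → Px C14 Cfsg.Agent.TcData.Ly.Syl.U.X381 C15 (i + 16) := by decide +kernel

theorem c15_32 : ∀ i, i < 16 → Px C14 Cfsg.Agent.TcData.Ly.Syl.U.X381 C15 (i + 32) := by decide +kernel

theorem c15_48 : ∀ i, i < 16 → Px C14 Cfsg.Agent.TcData.Ly.Syl.U.X381 C15 (i + 48) := by decide +kernel

theorem c15_64 : ∀ i, i < 16 → Px C14 Cfsg.Agent.TcData.Ly.Syl.U.X381 C15 (i + 64) := by decide +kernel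

theorem c15_80 : ∀ i, i < 16 → Px C14 Cfsg.Agent.TcData.Ly.Syl.U.X381 C15 (i + 80) := by decide +kernel

theorem c15_96 : ∀ i, i < 15 → Px C14 Cfsg.Agent.TcData.Ly.Syl.U.X381 C15 (i + 96) := by decide +kernel

theorem c23_0 : ∀ i, i < 16 → Px (M .d) (I .a) C23 (i + 0) := by decide +kernel

theorem c23_16 : ∀ i, i < 16 → Px (M .d) (I .a) C23 (i + 16) := by decide +kernel

theorem c23_32 : ∀ i, i < 16 → Px (M .d) (I .a) C23 (i + 32) := by decide +kernel

theorem c23_48 : ∀ i, i < 16 → Px (M .d) (I .a) C23 (i + 48) := by decide +kernel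

theorem c23_64 : ∀ i, i < 16 → Px (M .d) (I .a) C23 (i + 64) := by decide +kernel

theorem c23_80 : ∀ i, i < 16 → Px (M .d) (I .a) C23 (i + 80) := by decide +kernel

theorem c23_96 : ∀ i, i < 15 → Px (M .d) (I .a) C23 (i + 96) := by decide +kernel

theorem c31_0 : ∀ i, i < 16 → Px C28 C22 C31 (i + 0) := by decide +kernel

theorem c31_16 : ∀ i, i < 16 → Px C28 C22 C31 (i + 16) := by decide +kernel

theorem c31_32 : ∀ i, i < 16 → Px C28 C22 C31 (i + 32) := by decide +kernel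

theorem c31_48 : ∀ i, i < 16 → Px C28 C22 C31 (i + 48) := by decide +kernel

theorem c31_64 : ∀ i, i < 16 → Px C28 C22 C31 (i + 64) := by decide +kernel

theorem c31_80 : ∀ i, i < 16 → Px C28 C22 C31 (i + 80) := by decide +kernel

theorem c31_96 : ∀ i, i < 15 → Px C28 C22 C31 (i + 96) := by decide +kernel

theorem c39_0 : ∀ i, i < 16 → Px C30 Cfsg.Agent.TcData.Ly.Syl.U.X381 C39 (i + 0) := by decide +kernel

theorem c39_16 : ∀ i, i < 16 → Px C30 Cfsg.Agent.TcData.Ly.Syl.U.X381 C39 (i + 16) := by decide +kernel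

theorem c39_32 : ∀ i, i < 16 → Px C30 Cfsg.Agent.TcData.Ly.Syl.U.X381 C39 (i + 32) := by decide +kernel

theorem c39_48 : ∀ i, i < 16 → Px C30 Cfsg.Agent.TcData.Ly.Syl.U.X381 C39 (i + 48) := by decide +kernel

theorem c39_64 : ∀ i, i < 16 → Px C30 Cfsg.Agent.TcData.Ly.Syl.U.X381 C39 (i + 64) := by decide +kernel

theorem c39_80 : ∀ i, i < 16 → Px C30 Cfsg.Agent.TcData.Ly.Syl.U.X381 C39 (i + 80) := by decide +kernel

theorem c39_96 : ∀ i, i < 15 → Px C30 Cfsg.Agent.TcData.Ly.Syl.U.X381 C39 (i + 96) := by decide +kernel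

theorem c47_0 : ∀ i, i < 16 → Px C46 C45 C47 (i + 0) := by decide +kernel

theorem c47_16 : ∀ i, i < 16 → Px C46 C45 C47 (i + 16) := by decide +kernel

theorem c47_32 : ∀ i, i < 16 → Px C46 C45 C47 (i + 32) := by decide +kernel

theorem c47_48 : ∀ i, i < 16 → Px C46 C45 C47 (i + 48) := by decide +kernel

theorem c47_64 : ∀ i, i < 16 → Px C46 C45 C47 (i + 64) := by decide +kernel

theorem c47_80 : ∀ i, i < 16 → Px C46 C45 C47 (i + 80) := by decide +kernel

theorem c47_96 : ∀ i, i < 15 → Px C46 C45 C47 (i + 96) := by decide +kernel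

theorem c55_0 : ∀ i, i < 16 → Px C54 C30 C55 (i + 0) := by decide +kernel

theorem c55_16 : ∀ i, i < 16 → Px C54 C30 C55 (i + 16) := by decide +kernel

theorem c55_32 : ∀ i, i < 16 → Px C54 C30 C55 (i + 32) := by decide +kernel

theorem c55_48 : ∀ i, i < 16 → Px C54 C30 C55 (i + 48) := by decide +kernel

theorem c55_64 : ∀ i, i < 16 → Px C54 C30 C55 (i + 64) := by decide +kernel

theorem c55_80 : ∀ i, i < 16 → Px C54 C30 C55 (i + 80) := by decide +kernel

theorem c55_96 : ∀ i, i < 15 → Px C54 C30 C55 (i + 96) := by decide +kernel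

theorem c64_0 : ∀ i, i < 16 → Px C63 (I .c) C64 (i + 0) := by decide +kernel

theorem c64_16 : ∀ i, i < 16 → Px C63 (I .c) C64 (i + 16) := by decide +kernel

theorem c64_32 : ∀ i, i < 16 → Px C63 (I .c) C64 (i + 32) := by decide +kernel

theorem c64_48 : ∀ i, i < 16 → Px C63 (I .c) C64 (i + 48) := by decide +kernel

theorem c64_64 : ∀ i, i < 16 → Px C63 (I .c) C64 (i + 64) := by decide +kernel

theorem c64_80 : ∀ i, i < 16 → Px C63 (I .c) C64 (i + 80) := by decide +kernel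

theorem c64_96 : ∀ i, i < 15 → Px C63 (I .c) C64 (i + 96) := by decide +kernel

theorem c72_0 : ∀ i, i < 16 → Px C71 C25 C72 (i + 0) := by decide +kernel

theorem c72_16 : ∀ i, i < 16 → Px C71 C25 C72 (i + 16) := by decide +kernel

theorem c72_32 : ∀ i, i < 16 → Px C71 C25 C72 (i + 32) := by decide +kernel

theorem c72_48 : ∀ i, i < 16 → Px C71 C25 C72 (i + 48) := by decide +kernel

theorem c72_64 : ∀ i, i < 16 → Px C71 C25 C72 (i + 64) := by decide +kernel

theorem c72_80 : ∀ i, i < 16 → Px C71 C25 C72 (i + 80) := by decide +kernel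

theorem c72_96 : ∀ i, i < 15 → Px C71 C25 C72 (i + 96) := by decide +kernel

theorem c80_0 : ∀ i, i < 16 → Px C79 (M .c) C80 (i + 0) := by decide +kernel

theorem c80_16 : ∀ i, i < 16 → Px C79 (M .c) C80 (i + 16) := by decide +kernel

theorem c80_32 : ∀ i, i < 16 → Px C79 (M .c) C80 (i + 32) := by decide +kernel

theorem c80_48 : ∀ i, i < 16 → Px C79 (M .c) C80 (i + 48) := by decide +kernel

theorem c80_64 : ∀ i, i < 16 → Px C79 (M .c) C80 (i + 64) := by decide +kernel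

theorem c80_80 : ∀ i, i < 16 → Px C79 (M .c) C80 (i + 80) := by decide +kernel

theorem c80_96 : ∀ i, i < 15 → Px C79 (M .c) C80 (i + 96) := by decide +kernel

theorem c88_0 : ∀ i, i < 16 → Px C87 (I .b) C88 (i + 0) := by decide +kernel

theorem c88_16 : ∀ i, i < 16 → Px C87 (I .b) C88 (i + 16) := by decide +kernel

theorem c88_32 : ∀ i, i < 16 → Px C87 (I .b) C88 (i + 32) := by decide +kernel

theorem c88_48 : ∀ i, i < 16 → Px C87 (I .b) C88 (i + 48) := by decide +kernel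

theorem c88_64 : ∀ i, i < 16 → Px C87 (I .b) C88 (i + 64) := by decide +kernel

theorem c88_80 : ∀ i, i < 16 → Px C87 (I .b) C88 (i + 80) := by decide +kernel

theorem c88_96 : ∀ i, i < 15 → Px C87 (I .b) C88 (i + 96) := by decide +kernel

theorem c96_0 : ∀ i, i < 16 → Px C95 C95 C96 (i + 0) := by decide +kernel

theorem c96_16 : ∀ i, i < 16 → Px C95 C95 C96 (i + 16) := by decide +kernel

theorem c96_32 : ∀ i, i < 16 → Px C95 C95 C96 (i + 32) := by decide +kernel

theorem c96_48 : ∀ i, i < 16 → Px C95 C95 C96 (i + 48) := by decide +kernel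

theorem c96_64 : ∀ i, i < 16 → Px C95 C95 C96 (i + 64) := by decide +kernel

theorem c96_80 : ∀ i, i < 16 → Px C95 C95 C96 (i + 80) := by decide +kernel

theorem c96_96 : ∀ i, i < 15 → Px C95 C95 C96 (i + 96) := by decide +kernel

theorem c114_0 : ∀ i, i < 16 → Qx C100 C114 (i + 0) := by decide +kernel

theorem c114_16 : ∀ i, i < 16 → Qx C100 C114 (i + 16) := by decide +kernel

theorem c114_32 : ∀ i, i < 16 → Qx C100 C114 (i + 32) := by decide +kernel

theorem c114_48 : ∀ i, i < 16 → Qx C100 C114 (i + 48) := by decide +kernel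

theorem c114_64 : ∀ i, i < 16 → Qx C100 C114 (i + 64) := by decide +kernel

theorem c114_80 : ∀ i, i < 16 → Qx C100 C114 (i + 80) := by decide +kernel

theorem c114_96 : ∀ i, i < 15 → Qx C100 C114 (i + 96) := by decide +kernel

theorem c122_0 : ∀ i, i < 16 → Px C121 C120 C122 (i + 0) := by decide +kernel

theorem c122_16 : ∀ i, i < 16 → Px C121 C120 C122 (i + 16) := by decide +kernel

theorem c122_32 : ∀ i, i < 16 → Px C121 C120 C122 (i + 32) := by decide +kernel

theorem c122_48 : ∀ i, i < 16 → Px C121 C120 C122 (i + 48) := by decide +kernel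

theorem c122_64 : ∀ i, i < 16 → Px C121 C120 C122 (i + 64) := by decide +kernel

theorem c122_80 : ∀ i, i < 16 → Px C121 C120 C122 (i + 80) := by decide +kernel

theorem c122_96 : ∀ i, i < 15 → Px C121 C120 C122 (i + 96) := by decide +kernel

theorem c132_0 : ∀ i, i < 16 → Qx C118 C132 (i + 0) := by decide +kernel

theorem c132_16 : ∀ i, i < 16 → Qx C118 C132 (i + 16) := by decide +kernel

theorem c132_32 : ∀ i, i < 16 → Qx C118 C132 (i + 32) := by decide +kernel

theorem c132_48 : ∀ i, i < 16 → Qx C118 C132 (i + 48) := by decide +kernel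

theorem c132_64 : ∀ i, i < 16 → Qx C118 C132 (i + 64) := by decide +kernel

theorem c132_80 : ∀ i, i < 16 → Qx C118 C132 (i + 80) := by decide +kernel

theorem c132_96 : ∀ i, i < 15 → Qx C118 C132 (i + 96) := by decide +kernel

theorem c140_0 : ∀ i, i < 16 → Px C139 C132 C140 (i + 0) := by decide +kernel

theorem c140_16 : ∀ i, i < 16 → Px C139 C132 C140 (i + 16) := by decide +kernel

theorem c140_32 : ∀ i, i < 16 → Px C139 C132 C140 (i + 32) := by decide +kernel

theorem c140_48 : ∀ i, i < 16 → Px C139 C132 C140 (i + 48) := by decide +kernel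

theorem c140_64 : ∀ i, i < 16 → Px C139 C132 C140 (i + 64) := by decide +kernel

theorem c140_80 : ∀ i, i < 16 → Px C139 C132 C140 (i + 80) := by decide +kernel

theorem c140_96 : ∀ i, i < 15 → Px C139 C132 C140 (i + 96) := by decide +kernel


end Cfsg.Agent.TcData.LyMT
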