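import Mathlib
import Cfsg.Agent.TcData.LyMT.Lits


set_option autoImplicit false
set_option Elab.async false
set_option maxRecDepth 100000
set_option linter.all false
set_option maxHeartbeats 0

namespace Cfsg.Agent.TcData.LyMT

open Cfsg.Spor.Ly Cfsg.Agent.Lib.LyDce Cfsg.Agent.Lib.FpVec Cfsg.Agent.Lib.LyV111 Cfsg.Agent.Lib.LyMultB

theorem w21_0 : ∀ i, i < 16 → WP [C129,C140] [Cfsg.Agent.TcData.Ly.Syl.U.X381,Cfsg.Agent.TcData.Ly.Syl.U.X381,C134,C136,C136,C138,C138,C129] (i + 0) := by decide +kernel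

theorem w21_16 : ∀ i, i < 16 → WP [C129,C140] [Cfsg.Agent.TcData.Ly.Syl.U.X381,Cfsg.Agent.TcData.Ly.Syl.U.X381,C134,C136,C136,C138,C138,C129] (i + 16) := by decide +kernel

theorem w21_32 : ∀ i, i < 16 → WP [C129,C140] [Cfsg.Agent.TcData.Ly.Syl.U.X381,Cfsg.Agent.TcData.Ly.Syl.U.X381,C134,C136,C136,C138,C138,C129] (i + 32) := by decide +kernel

theorem w21_48 : ∀ i, i < 16 → WP [C129,C140] [Cfsg.Agent.TcData.Ly.Syl.U.X381,Cfsg.Agent.TcData.Ly.Syl.U.X381,C134,C136,C136,C138,C138,C129] (i + 48) := by decide +kernel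

theorem w21_64 : ∀ i, i < 16 → WP [C129,C140] [Cfsg.Agent.TcData.Ly.Syl.U.X381,Cfsg.Agent.TcData.Ly.Syl.U.X381,C134,C136,C136,C138,C138,C129] (i + 64) := by decide +kernel

theorem w21_80 : ∀ i, i < 16 → WP [C129,C140] [Cfsg.Agent.TcData.Ly.Syl.U.X381,Cfsg.Agent.TcData.Ly.Syl.U.X381,C134,C136,C136,C138,C138,C129] (i + 80) := by decide +kernel

theorem w21_96 : ∀ i, i < 15 → WP [C129,C140] [Cfsg.Agent.TcData.Ly.Syl.U.X381,Cfsg.Agent.TcData.Ly.Syl.U.X381,C134,C136,C136,C138,C138,C129] (i + 96) := by decide +kernel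

theorem w2_0 : ∀ i, i < 16 → WP [Cfsg.Agent.TcData.Ly.Syl.U.X381,C136] [C136,Cfsg.Agent.TcData.Ly.Syl.U.X381] (i + 0) := by decide +kernel

theorem w2_16 : ∀ i, i < 16 → WP [Cfsg.Agent.TcData.Ly.Syl.U.X381,C136] [C136,Cfsg.Agent.TcData.Ly.Syl.U.X381] (i + 16) := by decide +kernel

theorem w2_32 : ∀ i, i < 16 → WP [Cfsg.Agent.TcData.Ly.Syl.U.X381,C136] [C136,Cfsg.Agent.TcData.Ly.Syl.U.X381] (i + 32) := by decide +kernel

theorem w2_48 : ∀ i, i < 16 → WP [Cfsg.Agent.TcData.Ly.Syl.U.X381,C136] [C136,Cfsg.Agent.TcData.Ly.Syl.U.X381] (i + 48) := by decide +kernel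

theorem w2_64 : ∀ i, i < 16 → WP [Cfsg.Agent.TcData.Ly.Syl.U.X381,C136] [C136,Cfsg.Agent.TcData.Ly.Syl.U.X381] (i + 64) := by decide +kernel

theorem w2_80 : ∀ i, i < 16 → WP [Cfsg.Agent.TcData.Ly.Syl.U.X381,C136] [C136,Cfsg.Agent.TcData.Ly.Syl.U.X381] (i + 80) := by decide +kernel

theorem w2_96 : ∀ i, i < 15 → WP [Cfsg.Agent.TcData.Ly.Syl.U.X381,C136] [C136,Cfsg.Agent.TcData.Ly.Syl.U.X381] (i + 96) := by decide +kernel

theorem w7_0 : ∀ i, i < 16 → WP [C99,C118] [C118,C99] (i + 0) := by decide +kernel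

theorem w7_16 : ∀ i, i < 16 → WP [C99,C118] [C118,C99] (i + 16) := by decide +kernel

theorem w7_32 : ∀ i, i < 16 → WP [C99,C118] [C118,C99] (i + 32) := by decide +kernel

theorem w7_48 : ∀ i, i < 16 → WP [C99,C118] [C118,C99] (i + 48) := by decide +kernel

theorem w7_64 : ∀ i, i < 16 → WP [C99,C118] [C118,C99] (i + 64) := by decide +kernel

theorem w7_80 : ∀ i, i < 16 → WP [C99,C118] [C118,C99] (i + 80) := by decide +kernel

theorem w7_96 : ∀ i, i < 15 → WP [C99,C118] [C118,C99] (i + 96) := by decide +kernel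

theorem c16_0 : ∀ i, i < 16 → Px C15 Cfsg.Agent.TcData.Ly.Syl.U.X672 C16 (i + 0) := by decide +kernel

theorem c16_16 : ∀ i, i < 16 → Px C15 Cfsg.Agent.TcData.Ly.Syl.U.X672 C16 (i + 16) := by decide +kernel

theorem c16_32 : ∀ i, i < 16 → Px C15 Cfsg.Agent.TcData.Ly.Syl.U.X672 C16 (i + 32) := by decide +kernel

theorem c16_48 : ∀ i, i < 16 → Px C15 Cfsg.Agent.TcData.Ly.Syl.U.X672 C16 (i + 48) := by decide +kernel

theorem c16_64 : ∀ i, i < 16 → Px C15 Cfsg.Agent.TcData.Ly.Syl.U.X672 C16 (i + 64) := by decide +kernel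

theorem c16_80 : ∀ i, i < 16 → Px C15 Cfsg.Agent.TcData.Ly.Syl.U.X672 C16 (i + 80) := by decide +kernel

theorem c16_96 : ∀ i, i < 15 → Px C15 Cfsg.Agent.TcData.Ly.Syl.U.X672 C16 (i + 96) := by decide +kernel

theorem c24_0 : ∀ i, i < 16 → Px C23 C22 C24 (i + 0) := by decide +kernel

theorem c24_16 : ∀ i, i < 16 → Px C23 C22 C24 (i + 16) := by decide +kernel

theorem c24_32 : ∀ i, i < 16 → Px C23 C22 C24 (i + 32) := by decide +kernel

theorem c24_48 : ∀ i, i < 16 → Px C23 C22 C24 (i + 48) := by decide +kernel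

theorem c24_64 : ∀ i, i < 16 → Px C23 C22 C24 (i + 64) := by decide +kernel

theorem c24_80 : ∀ i, i < 16 → Px C23 C22 C24 (i + 80) := by decide +kernel

theorem c24_96 : ∀ i, i < 15 → Px C23 C22 C24 (i + 96) := by decide +kernel

theorem c32_0 : ∀ i, i < 16 → Px C31 C27 C32 (i + 0) := by decide +kernel

theorem c32_16 : ∀ i, i < 16 → Px C31 C27 C32 (i + 16) := by decide +kernel

theorem c32_32 : ∀ i, i < 16 → Px C31 C27 C32 (i + 32) := by decide +kernel

theorem c32_48 : ∀ i, i < 16 → Px C31 C27 C32 (i + 48) := by decide +kernel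

theorem c32_64 : ∀ i, i < 16 → Px C31 C27 C32 (i + 64) := by decide +kernel

theorem c32_80 : ∀ i, i < 16 → Px C31 C27 C32 (i + 80) := by decide +kernel

theorem c32_96 : ∀ i, i < 15 → Px C31 C27 C32 (i + 96) := by decide +kernel

theorem c40_0 : ∀ i, i < 16 → Px C39 Cfsg.Agent.TcData.Ly.Syl.U.X672 C40 (i + 0) := by decide +kernel

theorem c40_16 : ∀ i, i < 16 → Px C39 Cfsg.Agent.TcData.Ly.Syl.U.X672 C40 (i + 16) := by decide +kernel

theorem c40_32 : ∀ i, i < 16 → Px C39 Cfsg.Agent.TcData.Ly.Syl.U.X672 C40 (i + 32) := by decide +kernel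

theorem c40_48 : ∀ i, i < 16 → Px C39 Cfsg.Agent.TcData.Ly.Syl.U.X672 C40 (i + 48) := by decide +kernel

theorem c40_64 : ∀ i, i < 16 → Px C39 Cfsg.Agent.TcData.Ly.Syl.U.X672 C40 (i + 64) := by decide +kernel

theorem c40_80 : ∀ i, i < 16 → Px C39 Cfsg.Agent.TcData.Ly.Syl.U.X672 C40 (i + 80) := by decide +kernel

theorem c40_96 : ∀ i, i < 15 → Px C39 Cfsg.Agent.TcData.Ly.Syl.U.X672 C40 (i + 96) := by decide +kernel

theorem c48_0 : ∀ i, i < 16 → Px Cfsg.Agent.TcData.Ly.Syl.U.X561 Cfsg.Agent.TcData.Ly.Syl.U.X561 C48 (i + 0) := by decide +kernel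

theorem c48_16 : ∀ i, i < 16 → Px Cfsg.Agent.TcData.Ly.Syl.U.X561 Cfsg.Agent.TcData.Ly.Syl.U.X561 C48 (i + 16) := by decide +kernel

theorem c48_32 : ∀ i, i < 16 → Px Cfsg.Agent.TcData.Ly.Syl.U.X561 Cfsg.Agent.TcData.Ly.Syl.U.X561 C48 (i + 32) := by decide +kernel

theorem c48_48 : ∀ i, i < 16 → Px Cfsg.Agent.TcData.Ly.Syl.U.X561 Cfsg.Agent.TcData.Ly.Syl.U.X561 C48 (i + 48) := by decide +kernel

theorem c48_64 : ∀ i, i < 16 → Px Cfsg.Agent.TcData.Ly.Syl.U.X561 Cfsg.Agent.TcData.Ly.Syl.U.X561 C48 (i + 64) := by decide +kernel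

theorem c48_80 : ∀ i, i < 16 → Px Cfsg.Agent.TcData.Ly.Syl.U.X561 Cfsg.Agent.TcData.Ly.Syl.U.X561 C48 (i + 80) := by decide +kernel

theorem c48_96 : ∀ i, i < 15 → Px Cfsg.Agent.TcData.Ly.Syl.U.X561 Cfsg.Agent.TcData.Ly.Syl.U.X561 C48 (i + 96) := by decide +kernel

theorem c56_0 : ∀ i, i < 16 → Px C55 C30 C56 (i + 0) := by decide +kernel

theorem c56_16 : ∀ i, i < 16 → Px C55 C30 C56 (i + 16) := by decide +kernel

theorem c56_32 : ∀ i, i < 16 → Px C55 C30 C56 (i + 32) := by decide +kernel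

theorem c56_48 : ∀ i, i < 16 → Px C55 C30 C56 (i + 48) := by decide +kernel

theorem c56_64 : ∀ i, i < 16 → Px C55 C30 C56 (i + 64) := by decide +kernel

theorem c56_80 : ∀ i, i < 16 → Px C55 C30 C56 (i + 80) := by decide +kernel

theorem c56_96 : ∀ i, i < 15 → Px C55 C30 C56 (i + 96) := by decide +kernel

theorem c65_0 : ∀ i, i < 16 → Px C64 (M .b) C65 (i + 0) := by decide +kernel

theorem c65_16 : ∀ i, i < 16 → Px C64 (M .b) C65 (i + 16) := by decide +kernel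

theorem c65_32 : ∀ i, i < 16 → Px C64 (M .b) C65 (i + 32) := by decide +kernel

theorem c65_48 : ∀ i, i < 16 → Px C64 (M .b) C65 (i + 48) := by decide +kernel

theorem c65_64 : ∀ i, i < 16 → Px C64 (M .b) C65 (i + 64) := by decide +kernel

theorem c65_80 : ∀ i, i < 16 → Px C64 (M .b) C65 (i + 80) := by decide +kernel

theorem c65_96 : ∀ i, i < 15 → Px C64 (M .b) C65 (i + 96) := by decide +kernel

theorem c73_0 : ∀ i, i < 16 → Px C72 Cfsg.Agent.TcData.Ly.Syl.U.X672 C73 (i + 0) := by decide +kernel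

theorem c73_16 : ∀ i, i < 16 → Px C72 Cfsg.Agent.TcData.Ly.Syl.U.X672 C73 (i + 16) := by decide +kernel

theorem c73_32 : ∀ i, i < 16 → Px C72 Cfsg.Agent.TcData.Ly.Syl.U.X672 C73 (i + 32) := by decide +kernel

theorem c73_48 : ∀ i, i < 16 → Px C72 Cfsg.Agent.TcData.Ly.Syl.U.X672 C73 (i + 48) := by decide +kernel

theorem c73_64 : ∀ i, i < 16 → Px C72 Cfsg.Agent.TcData.Ly.Syl.U.X672 C73 (i + 64) := by decide +kernel

theorem c73_80 : ∀ i, i < 16 → Px C72 Cfsg.Agent.TcData.Ly.Syl.U.X672 C73 (i + 80) := by decide +kernel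

theorem c73_96 : ∀ i, i < 15 → Px C72 Cfsg.Agent.TcData.Ly.Syl.U.X672 C73 (i + 96) := by decide +kernel

theorem c81_0 : ∀ i, i < 16 → Px C80 (I .a) C81 (i + 0) := by decide +kernel

theorem c81_16 : ∀ i, i < 16 → Px C80 (I .a) C81 (i + 16) := by decide +kernel

theorem c81_32 : ∀ i, i < 16 → Px C80 (I .a) C81 (i + 32) := by decide +kernel

theorem c81_48 : ∀ i, i < 16 → Px C80 (I .a) C81 (i + 48) := by decide +kernel

theorem c81_64 : ∀ i, i < 16 → Px C80 (I .a) C81 (i + 64) := by decide +kernel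

theorem c81_80 : ∀ i, i < 16 → Px C80 (I .a) C81 (i + 80) := by decide +kernel

theorem c81_96 : ∀ i, i < 15 → Px C80 (I .a) C81 (i + 96) := by decide +kernel

theorem c89_0 : ∀ i, i < 16 → Px C25 C25 C89 (i + 0) := by decide +kernel

theorem c89_16 : ∀ i, i < 16 → Px C25 C25 C89 (i + 16) := by decide +kernel

theorem c89_32 : ∀ i, i < 16 → Px C25 C25 C89 (i + 32) := by decide +kernel

theorem c89_48 : ∀ i, i < 16 → Px C25 C25 C89 (i + 48) := by decide +kernel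

theorem c89_64 : ∀ i, i < 16 → Px C25 C25 C89 (i + 64) := by decide +kernel

theorem c89_80 : ∀ i, i < 16 → Px C25 C25 C89 (i + 80) := by decide +kernel

theorem c89_96 : ∀ i, i < 15 → Px C25 C25 C89 (i + 96) := by decide +kernel

theorem c97_0 : ∀ i, i < 16 → Px C96 C95 C97 (i + 0) := by decide +kernel

theorem c97_16 : ∀ i, i < 16 → Px C96 C95 C97 (i + 16) := by decide +kernel

theorem c97_32 : ∀ i, i < 16 → Px C96 C95 C97 (i + 32) := by decide +kernel

theorem c97_48 : ∀ i, i < 16 → Px C96 C95 C97 (i + 48) := by decide +kernel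

theorem c97_64 : ∀ i, i < 16 → Px C96 C95 C97 (i + 64) := by decide +kernel

theorem c97_80 : ∀ i, i < 16 → Px C96 C95 C97 (i + 80) := by decide +kernel

theorem c97_96 : ∀ i, i < 15 → Px C96 C95 C97 (i + 96) := by decide +kernel

theorem c115_0 : ∀ i, i < 16 → Px C99 C100 C115 (i + 0) := by decide +kernel

theorem c115_16 : ∀ i, i < 16 → Px C99 C100 C115 (i + 16) := by decide +kernel

theorem c115_32 : ∀ i, i < 16 → Px C99 C100 C115 (i + 32) := by decide +kernel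

theorem c115_48 : ∀ i, i < 16 → Px C99 C100 C115 (i + 48) := by decide +kernel

theorem c115_64 : ∀ i, i < 16 → Px C99 C100 C115 (i + 64) := by decide +kernel

theorem c115_80 : ∀ i, i < 16 → Px C99 C100 C115 (i + 80) := by decide +kernel

theorem c115_96 : ∀ i, i < 15 → Px C99 C100 C115 (i + 96) := by decide +kernel

theorem c123_0 : ∀ i, i < 16 → Px C103 C122 C123 (i + 0) := by decide +kernel

theorem c123_16 : ∀ i, i < 16 → Px C103 C122 C123 (i + 16) := by decide +kernel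

theorem c123_32 : ∀ i, i < 16 → Px C103 C122 C123 (i + 32) := by decide +kernel

theorem c123_48 : ∀ i, i < 16 → Px C103 C122 C123 (i + 48) := by decide +kernel

theorem c123_64 : ∀ i, i < 16 → Px C103 C122 C123 (i + 64) := by decide +kernel

theorem c123_80 : ∀ i, i < 16 → Px C103 C122 C123 (i + 80) := by decide +kernel

theorem c123_96 : ∀ i, i < 15 → Px C103 C122 C123 (i + 96) := by decide +kernel

theorem c133_0 : ∀ i, i < 16 → Px C118 Cfsg.Agent.TcData.Ly.Syl.U.X381 C133 (i + 0) := by decide +kernel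

theorem c133_16 : ∀ i, i < 16 → Px C118 Cfsg.Agent.TcData.Ly.Syl.U.X381 C133 (i + 16) := by decide +kernel

theorem c133_32 : ∀ i, i < 16 → Px C118 Cfsg.Agent.TcData.Ly.Syl.U.X381 C133 (i + 32) := by decide +kernel

theorem c133_48 : ∀ i, i < 16 → Px C118 Cfsg.Agent.TcData.Ly.Syl.U.X381 C133 (i + 48) := by decide +kernel

theorem c133_64 : ∀ i, i < 16 → Px C118 Cfsg.Agent.TcData.Ly.Syl.U.X381 C133 (i + 64) := by decide +kernel

theorem c133_80 : ∀ i, i < 16 → Px C118 Cfsg.Agent.TcData.Ly.Syl.U.X381 C133 (i + 80) := by decide +kernel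

theorem c133_96 : ∀ i, i < 15 → Px C118 Cfsg.Agent.TcData.Ly.Syl.U.X381 C133 (i + 96) := by decide +kernel


end Cfsg.Agent.TcData.LyMT
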