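import Mathlib
import Cfsg.Agent.TcData.LyMT.Lits


set_option autoImplicit false
set_option Elab.async false
set_option maxRecDepth 100000
set_option linter.all false
set_option maxHeartbeats 0

namespace Cfsg.Agent.TcData.LyMT

open Cfsg.Spor.Ly Cfsg.Agent.Lib.LyDce Cfsg.Agent.Lib.FpVec Cfsg.Agent.Lib.LyV111 Cfsg.Agent.Lib.LyMultB

theorem w22_0 : ∀ i, i < 16 → WP [Cfsg.Agent.TcData.Ly.Syl.U.X561] [Cfsg.Agent.TcData.Ly.Syl.U.X381,Cfsg.Agent.TcData.Ly.Syl.U.X381,C134,C136,C136,C138,C138,C140,C127] (i + 0) := by decide +kernel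

theorem w22_16 : ∀ i, i < 16 → WP [Cfsg.Agent.TcData.Ly.Syl.U.X561] [Cfsg.Agent.TcData.Ly.Syl.U.X381,Cfsg.Agent.TcData.Ly.Syl.U.X381,C134,C136,C136,C138,C138,C140,C127] (i + 16) := by decide +kernel

theorem w22_32 : ∀ i, i < 16 → WP [Cfsg.Agent.TcData.Ly.Syl.U.X561] [Cfsg.Agent.TcData.Ly.Syl.U.X381,Cfsg.Agent.TcData.Ly.Syl.U.X381,C134,C136,C136,C138,C138,C140,C127] (i + 32) := by decide +kernel

theorem w22_48 : ∀ i, i < 16 → WP [Cfsg.Agent.TcData.Ly.Syl.U.X561] [Cfsg.Agent.TcData.Ly.Syl.U.X381,Cfsg.Agent.TcData.Ly.Syl.U.X381,C134,C136,C136,C138,C138,C140,C127] (i + 48) := by decide +kernel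

theorem w22_64 : ∀ i, i < 16 → WP [Cfsg.Agent.TcData.Ly.Syl.U.X561] [Cfsg.Agent.TcData.Ly.Syl.U.X381,Cfsg.Agent.TcData.Ly.Syl.U.X381,C134,C136,C136,C138,C138,C140,C127] (i + 64) := by decide +kernel

theorem w22_80 : ∀ i, i < 16 → WP [Cfsg.Agent.TcData.Ly.Syl.U.X561] [Cfsg.Agent.TcData.Ly.Syl.U.X381,Cfsg.Agent.TcData.Ly.Syl.U.X381,C134,C136,C136,C138,C138,C140,C127] (i + 80) := by decide +kernel

theorem w22_96 : ∀ i, i < 15 → WP [Cfsg.Agent.TcData.Ly.Syl.U.X561] [Cfsg.Agent.TcData.Ly.Syl.U.X381,Cfsg.Agent.TcData.Ly.Syl.U.X381,C134,C136,C136,C138,C138,C140,C127] (i + 96) := by decide +kernel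

theorem w3_0 : ∀ i, i < 16 → WP [Cfsg.Agent.TcData.Ly.Syl.U.X381,C138] [C138,Cfsg.Agent.TcData.Ly.Syl.U.X381] (i + 0) := by decide +kernel

theorem w3_16 : ∀ i, i < 16 → WP [Cfsg.Agent.TcData.Ly.Syl.U.X381,C138] [C138,Cfsg.Agent.TcData.Ly.Syl.U.X381] (i + 16) := by decide +kernel

theorem w3_32 : ∀ i, i < 16 → WP [Cfsg.Agent.TcData.Ly.Syl.U.X381,C138] [C138,Cfsg.Agent.TcData.Ly.Syl.U.X381] (i + 32) := by decide +kernel

theorem w3_48 : ∀ i, i < 16 → WP [Cfsg.Agent.TcData.Ly.Syl.U.X381,C138] [C138,Cfsg.Agent.TcData.Ly.Syl.U.X381] (i + 48) := by decide +kernel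

theorem w3_64 : ∀ i, i < 16 → WP [Cfsg.Agent.TcData.Ly.Syl.U.X381,C138] [C138,Cfsg.Agent.TcData.Ly.Syl.U.X381] (i + 64) := by decide +kernel

theorem w3_80 : ∀ i, i < 16 → WP [Cfsg.Agent.TcData.Ly.Syl.U.X381,C138] [C138,Cfsg.Agent.TcData.Ly.Syl.U.X381] (i + 80) := by decide +kernel

theorem w3_96 : ∀ i, i < 15 → WP [Cfsg.Agent.TcData.Ly.Syl.U.X381,C138] [C138,Cfsg.Agent.TcData.Ly.Syl.U.X381] (i + 96) := by decide +kernel

theorem w8_0 : ∀ i, i < 16 → WP [C99,C127] [C127,C99] (i + 0) := by decide +kernel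

theorem w8_16 : ∀ i, i < 16 → WP [C99,C127] [C127,C99] (i + 16) := by decide +kernel

theorem w8_32 : ∀ i, i < 16 → WP [C99,C127] [C127,C99] (i + 32) := by decide +kernel

theorem w8_48 : ∀ i, i < 16 → WP [C99,C127] [C127,C99] (i + 48) := by decide +kernel

theorem w8_64 : ∀ i, i < 16 → WP [C99,C127] [C127,C99] (i + 64) := by decide +kernel

theorem w8_80 : ∀ i, i < 16 → WP [C99,C127] [C127,C99] (i + 80) := by decide +kernel

theorem w8_96 : ∀ i, i < 15 → WP [C99,C127] [C127,C99] (i + 96) := by decide +kernel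

theorem c17_0 : ∀ i, i < 16 → Px C16 Cfsg.Agent.TcData.Ly.Syl.U.X561 C17 (i + 0) := by decide +kernel

theorem c17_16 : ∀ i, i < 16 → Px C16 Cfsg.Agent.TcData.Ly.Syl.U.X561 C17 (i + 16) := by decide +kernel

theorem c17_32 : ∀ i, i < 16 → Px C16 Cfsg.Agent.TcData.Ly.Syl.U.X561 C17 (i + 32) := by decide +kernel

theorem c17_48 : ∀ i, i < 16 → Px C16 Cfsg.Agent.TcData.Ly.Syl.U.X561 C17 (i + 48) := by decide +kernel

theorem c17_64 : ∀ i, i < 16 → Px C16 Cfsg.Agent.TcData.Ly.Syl.U.X561 C17 (i + 64) := by decide +kernel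

theorem c17_80 : ∀ i, i < 16 → Px C16 Cfsg.Agent.TcData.Ly.Syl.U.X561 C17 (i + 80) := by decide +kernel

theorem c17_96 : ∀ i, i < 15 → Px C16 Cfsg.Agent.TcData.Ly.Syl.U.X561 C17 (i + 96) := by decide +kernel

theorem c25_0 : ∀ i, i < 16 → Px C24 C23 C25 (i + 0) := by decide +kernel

theorem c25_16 : ∀ i, i < 16 → Px C24 C23 C25 (i + 16) := by decide +kernel

theorem c25_32 : ∀ i, i < 16 → Px C24 C23 C25 (i + 32) := by decide +kernel

theorem c25_48 : ∀ i, i < 16 → Px C24 C23 C25 (i + 48) := by decide +kernel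

theorem c25_64 : ∀ i, i < 16 → Px C24 C23 C25 (i + 64) := by decide +kernel

theorem c25_80 : ∀ i, i < 16 → Px C24 C23 C25 (i + 80) := by decide +kernel

theorem c25_96 : ∀ i, i < 15 → Px C24 C23 C25 (i + 96) := by decide +kernel

theorem c33_0 : ∀ i, i < 16 → Px Cfsg.Agent.TcData.Ly.Syl.U.X381 Cfsg.Agent.TcData.Ly.Syl.U.X672 C33 (i + 0) := by decide +kernel

theorem c33_16 : ∀ i, i < 16 → Px Cfsg.Agent.TcData.Ly.Syl.U.X381 Cfsg.Agent.TcData.Ly.Syl.U.X672 C33 (i + 16) := by decide +kernel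

theorem c33_32 : ∀ i, i < 16 → Px Cfsg.Agent.TcData.Ly.Syl.U.X381 Cfsg.Agent.TcData.Ly.Syl.U.X672 C33 (i + 32) := by decide +kernel

theorem c33_48 : ∀ i, i < 16 → Px Cfsg.Agent.TcData.Ly.Syl.U.X381 Cfsg.Agent.TcData.Ly.Syl.U.X672 C33 (i + 48) := by decide +kernel

theorem c33_64 : ∀ i, i < 16 → Px Cfsg.Agent.TcData.Ly.Syl.U.X381 Cfsg.Agent.TcData.Ly.Syl.U.X672 C33 (i + 64) := by decide +kernel

theorem c33_80 : ∀ i, i < 16 → Px Cfsg.Agent.TcData.Ly.Syl.U.X381 Cfsg.Agent.TcData.Ly.Syl.U.X672 C33 (i + 80) := by decide +kernel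

theorem c33_96 : ∀ i, i < 15 → Px Cfsg.Agent.TcData.Ly.Syl.U.X381 Cfsg.Agent.TcData.Ly.Syl.U.X672 C33 (i + 96) := by decide +kernel

theorem c41_0 : ∀ i, i < 16 → Px C40 C32 C41 (i + 0) := by decide +kernel

theorem c41_16 : ∀ i, i < 16 → Px C40 C32 C41 (i + 16) := by decide +kernel

theorem c41_32 : ∀ i, i < 16 → Px C40 C32 C41 (i + 32) := by decide +kernel

theorem c41_48 : ∀ i, i < 16 → Px C40 C32 C41 (i + 48) := by decide +kernel

theorem c41_64 : ∀ i, i < 16 → Px C40 C32 C41 (i + 64) := by decide +kernel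

theorem c41_80 : ∀ i, i < 16 → Px C40 C32 C41 (i + 80) := by decide +kernel

theorem c41_96 : ∀ i, i < 15 → Px C40 C32 C41 (i + 96) := by decide +kernel

theorem c49_0 : ∀ i, i < 16 → Px C39 C32 C49 (i + 0) := by decide +kernel

theorem c49_16 : ∀ i, i < 16 → Px C39 C32 C49 (i + 16) := by decide +kernel

theorem c49_32 : ∀ i, i < 16 → Px C39 C32 C49 (i + 32) := by decide +kernel

theorem c49_48 : ∀ i, i < 16 → Px C39 C32 C49 (i + 48) := by decide +kernel

theorem c49_64 : ∀ i, i < 16 → Px C39 C32 C49 (i + 64) := by decide +kernel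

theorem c49_80 : ∀ i, i < 16 → Px C39 C32 C49 (i + 80) := by decide +kernel

theorem c49_96 : ∀ i, i < 15 → Px C39 C32 C49 (i + 96) := by decide +kernel

theorem c57_0 : ∀ i, i < 16 → Px C25 C52 C57 (i + 0) := by decide +kernel

theorem c57_16 : ∀ i, i < 16 → Px C25 C52 C57 (i + 16) := by decide +kernel

theorem c57_32 : ∀ i, i < 16 → Px C25 C52 C57 (i + 32) := by decide +kernel

theorem c57_48 : ∀ i, i < 16 → Px C25 C52 C57 (i + 48) := by decide +kernel

theorem c57_64 : ∀ i, i < 16 → Px C25 C52 C57 (i + 64) := by decide +kernel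

theorem c57_80 : ∀ i, i < 16 → Px C25 C52 C57 (i + 80) := by decide +kernel

theorem c57_96 : ∀ i, i < 15 → Px C25 C52 C57 (i + 96) := by decide +kernel

theorem c66_0 : ∀ i, i < 16 → Px C65 (M .d) C66 (i + 0) := by decide +kernel

theorem c66_16 : ∀ i, i < 16 → Px C65 (M .d) C66 (i + 16) := by decide +kernel

theorem c66_32 : ∀ i, i < 16 → Px C65 (M .d) C66 (i + 32) := by decide +kernel

theorem c66_48 : ∀ i, i < 16 → Px C65 (M .d) C66 (i + 48) := by decide +kernel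

theorem c66_64 : ∀ i, i < 16 → Px C65 (M .d) C66 (i + 64) := by decide +kernel

theorem c66_80 : ∀ i, i < 16 → Px C65 (M .d) C66 (i + 80) := by decide +kernel

theorem c66_96 : ∀ i, i < 15 → Px C65 (M .d) C66 (i + 96) := by decide +kernel

theorem c74_0 : ∀ i, i < 16 → Px C73 C25 C74 (i + 0) := by decide +kernel

theorem c74_16 : ∀ i, i < 16 → Px C73 C25 C74 (i + 16) := by decide +kernel

theorem c74_32 : ∀ i, i < 16 → Px C73 C25 C74 (i + 32) := by decide +kernel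

theorem c74_48 : ∀ i, i < 16 → Px C73 C25 C74 (i + 48) := by decide +kernel

theorem c74_64 : ∀ i, i < 16 → Px C73 C25 C74 (i + 64) := by decide +kernel

theorem c74_80 : ∀ i, i < 16 → Px C73 C25 C74 (i + 80) := by decide +kernel

theorem c74_96 : ∀ i, i < 15 → Px C73 C25 C74 (i + 96) := by decide +kernel

theorem c82_0 : ∀ i, i < 16 → Px C81 (I .b) C82 (i + 0) := by decide +kernel

theorem c82_16 : ∀ i, i < 16 → Px C81 (I .b) C82 (i + 16) := by decide +kernel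

theorem c82_32 : ∀ i, i < 16 → Px C81 (I .b) C82 (i + 32) := by decide +kernel

theorem c82_48 : ∀ i, i < 16 → Px C81 (I .b) C82 (i + 48) := by decide +kernel

theorem c82_64 : ∀ i, i < 16 → Px C81 (I .b) C82 (i + 64) := by decide +kernel

theorem c82_80 : ∀ i, i < 16 → Px C81 (I .b) C82 (i + 80) := by decide +kernel

theorem c82_96 : ∀ i, i < 15 → Px C81 (I .b) C82 (i + 96) := by decide +kernel

theorem c90_0 : ∀ i, i < 16 → Px C89 Cfsg.Agent.TcData.Ly.Syl.U.X381 C90 (i + 0) := by decide +kernel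

theorem c90_16 : ∀ i, i < 16 → Px C89 Cfsg.Agent.TcData.Ly.Syl.U.X381 C90 (i + 16) := by decide +kernel

theorem c90_32 : ∀ i, i < 16 → Px C89 Cfsg.Agent.TcData.Ly.Syl.U.X381 C90 (i + 32) := by decide +kernel

theorem c90_48 : ∀ i, i < 16 → Px C89 Cfsg.Agent.TcData.Ly.Syl.U.X381 C90 (i + 48) := by decide +kernel

theorem c90_64 : ∀ i, i < 16 → Px C89 Cfsg.Agent.TcData.Ly.Syl.U.X381 C90 (i + 64) := by decide +kernel

theorem c90_80 : ∀ i, i < 16 → Px C89 Cfsg.Agent.TcData.Ly.Syl.U.X381 C90 (i + 80) := by decide +kernel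

theorem c90_96 : ∀ i, i < 15 → Px C89 Cfsg.Agent.TcData.Ly.Syl.U.X381 C90 (i + 96) := by decide +kernel

theorem c98_0 : ∀ i, i < 16 → Px C97 C95 C98 (i + 0) := by decide +kernel

theorem c98_16 : ∀ i, i < 16 → Px C97 C95 C98 (i + 16) := by decide +kernel

theorem c98_32 : ∀ i, i < 16 → Px C97 C95 C98 (i + 32) := by decide +kernel

theorem c98_48 : ∀ i, i < 16 → Px C97 C95 C98 (i + 48) := by decide +kernel

theorem c98_64 : ∀ i, i < 16 → Px C97 C95 C98 (i + 64) := by decide +kernel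

theorem c98_80 : ∀ i, i < 16 → Px C97 C95 C98 (i + 80) := by decide +kernel

theorem c98_96 : ∀ i, i < 15 → Px C97 C95 C98 (i + 96) := by decide +kernel

theorem c116_0 : ∀ i, i < 16 → Px C99 C114 C116 (i + 0) := by decide +kernel

theorem c116_16 : ∀ i, i < 16 → Px C99 C114 C116 (i + 16) := by decide +kernel

theorem c116_32 : ∀ i, i < 16 → Px C99 C114 C116 (i + 32) := by decide +kernel

theorem c116_48 : ∀ i, i < 16 → Px C99 C114 C116 (i + 48) := by decide +kernel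

theorem c116_64 : ∀ i, i < 16 → Px C99 C114 C116 (i + 64) := by decide +kernel

theorem c116_80 : ∀ i, i < 16 → Px C99 C114 C116 (i + 80) := by decide +kernel

theorem c116_96 : ∀ i, i < 15 → Px C99 C114 C116 (i + 96) := by decide +kernel

theorem c124_0 : ∀ i, i < 16 → Px C99 Cfsg.Agent.TcData.Ly.Syl.U.X561 C124 (i + 0) := by decide +kernel

theorem c124_16 : ∀ i, i < 16 → Px C99 Cfsg.Agent.TcData.Ly.Syl.U.X561 C124 (i + 16) := by decide +kernel

theorem c124_32 : ∀ i, i < 16 → Px C99 Cfsg.Agent.TcData.Ly.Syl.U.X561 C124 (i + 32) := by decide +kernel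

theorem c124_48 : ∀ i, i < 16 → Px C99 Cfsg.Agent.TcData.Ly.Syl.U.X561 C124 (i + 48) := by decide +kernel

theorem c124_64 : ∀ i, i < 16 → Px C99 Cfsg.Agent.TcData.Ly.Syl.U.X561 C124 (i + 64) := by decide +kernel

theorem c124_80 : ∀ i, i < 16 → Px C99 Cfsg.Agent.TcData.Ly.Syl.U.X561 C124 (i + 80) := by decide +kernel

theorem c124_96 : ∀ i, i < 15 → Px C99 Cfsg.Agent.TcData.Ly.Syl.U.X561 C124 (i + 96) := by decide +kernel

theorem c134_0 : ∀ i, i < 16 → Px C133 C132 C134 (i + 0) := by decide +kernel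

theorem c134_16 : ∀ i, i < 16 → Px C133 C132 C134 (i + 16) := by decide +kernel

theorem c134_32 : ∀ i, i < 16 → Px C133 C132 C134 (i + 32) := by decide +kernel

theorem c134_48 : ∀ i, i < 16 → Px C133 C132 C134 (i + 48) := by decide +kernel

theorem c134_64 : ∀ i, i < 16 → Px C133 C132 C134 (i + 64) := by decide +kernel

theorem c134_80 : ∀ i, i < 16 → Px C133 C132 C134 (i + 80) := by decide +kernel

theorem c134_96 : ∀ i, i < 15 → Px C133 C132 C134 (i + 96) := by decide +kernel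


end Cfsg.Agent.TcData.LyMT
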