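import Mathlib
import Cfsg.Agent.TcData.LyMT.Lits


set_option autoImplicit false
set_option Elab.async false
set_option maxRecDepth 100000
set_option linter.all false
set_option maxHeartbeats 0

namespace Cfsg.Agent.TcData.LyMT

open Cfsg.Spor.Ly Cfsg.Agent.Lib.LyDce Cfsg.Agent.Lib.FpVec Cfsg.Agent.Lib.LyV111 Cfsg.Agent.Lib.LyMultB

theorem w0_0 : ∀ i, i < 16 → WP [C118,C140,C132] [Cfsg.Agent.TcData.Ly.Syl.U.X381,C136,C136,C138,C140,C140] (i + 0) := by decide +kernel

theorem w0_16 : ∀ i, i < 16 → WP [C118,C140,C132] [Cfsg.Agent.TcData.Ly.Syl.U.X381,C136,C136,C138,C140,C140] (i + 16) := by decide +kernel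

theorem w0_32 : ∀ i, i < 16 → WP [C118,C140,C132] [Cfsg.Agent.TcData.Ly.Syl.U.X381,C136,C136,C138,C140,C140] (i + 32) := by decide +kernel

theorem w0_48 : ∀ i, i < 16 → WP [C118,C140,C132] [Cfsg.Agent.TcData.Ly.Syl.U.X381,C136,C136,C138,C140,C140] (i + 48) := by decide +kernel

theorem w0_64 : ∀ i, i < 16 → WP [C118,C140,C132] [Cfsg.Agent.TcData.Ly.Syl.U.X381,C136,C136,C138,C140,C140] (i + 64) := by decide +kernel

theorem w0_80 : ∀ i, i < 16 → WP [C118,C140,C132] [Cfsg.Agent.TcData.Ly.Syl.U.X381,C136,C136,C138,C140,C140] (i + 80) := by decide +kernel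

theorem w0_96 : ∀ i, i < 15 → WP [C118,C140,C132] [Cfsg.Agent.TcData.Ly.Syl.U.X381,C136,C136,C138,C140,C140] (i + 96) := by decide +kernel

theorem w15_0 : ∀ i, i < 16 → WP [C127,C138] [Cfsg.Agent.TcData.Ly.Syl.U.X381,Cfsg.Agent.TcData.Ly.Syl.U.X381,C127] (i + 0) := by decide +kernel

theorem w15_16 : ∀ i, i < 16 → WP [C127,C138] [Cfsg.Agent.TcData.Ly.Syl.U.X381,Cfsg.Agent.TcData.Ly.Syl.U.X381,C127] (i + 16) := by decide +kernel

theorem w15_32 : ∀ i, i < 16 → WP [C127,C138] [Cfsg.Agent.TcData.Ly.Syl.U.X381,Cfsg.Agent.TcData.Ly.Syl.U.X381,C127] (i + 32) := by decide +kernel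

theorem w15_48 : ∀ i, i < 16 → WP [C127,C138] [Cfsg.Agent.TcData.Ly.Syl.U.X381,Cfsg.Agent.TcData.Ly.Syl.U.X381,C127] (i + 48) := by decide +kernel

theorem w15_64 : ∀ i, i < 16 → WP [C127,C138] [Cfsg.Agent.TcData.Ly.Syl.U.X381,Cfsg.Agent.TcData.Ly.Syl.U.X381,C127] (i + 64) := by decide +kernel

theorem w15_80 : ∀ i, i < 16 → WP [C127,C138] [Cfsg.Agent.TcData.Ly.Syl.U.X381,Cfsg.Agent.TcData.Ly.Syl.U.X381,C127] (i + 80) := by decide +kernel

theorem w15_96 : ∀ i, i < 15 → WP [C127,C138] [Cfsg.Agent.TcData.Ly.Syl.U.X381,Cfsg.Agent.TcData.Ly.Syl.U.X381,C127] (i + 96) := by decide +kernel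

theorem w9_0 : ∀ i, i < 16 → WP [C99,C129] [C129,C99] (i + 0) := by decide +kernel

theorem w9_16 : ∀ i, i < 16 → WP [C99,C129] [C129,C99] (i + 16) := by decide +kernel

theorem w9_32 : ∀ i, i < 16 → WP [C99,C129] [C129,C99] (i + 32) := by decide +kernel

theorem w9_48 : ∀ i, i < 16 → WP [C99,C129] [C129,C99] (i + 48) := by decide +kernel

theorem w9_64 : ∀ i, i < 16 → WP [C99,C129] [C129,C99] (i + 64) := by decide +kernel

theorem w9_80 : ∀ i, i < 16 → WP [C99,C129] [C129,C99] (i + 80) := by decide +kernel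

theorem w9_96 : ∀ i, i < 15 → WP [C99,C129] [C129,C99] (i + 96) := by decide +kernel

theorem c18_0 : ∀ i, i < 16 → Px C17 Cfsg.Agent.TcData.Ly.Syl.U.X381 C18 (i + 0) := by decide +kernel

theorem c18_16 : ∀ i, i < 16 → Px C17 Cfsg.Agent.TcData.Ly.Syl.U.X381 C18 (i + 16) := by decide +kernel

theorem c18_32 : ∀ i, i < 16 → Px C17 Cfsg.Agent.TcData.Ly.Syl.U.X381 C18 (i + 32) := by decide +kernel

theorem c18_48 : ∀ i, i < 16 → Px C17 Cfsg.Agent.TcData.Ly.Syl.U.X381 C18 (i + 48) := by decide +kernel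

theorem c18_64 : ∀ i, i < 16 → Px C17 Cfsg.Agent.TcData.Ly.Syl.U.X381 C18 (i + 64) := by decide +kernel

theorem c18_80 : ∀ i, i < 16 → Px C17 Cfsg.Agent.TcData.Ly.Syl.U.X381 C18 (i + 80) := by decide +kernel

theorem c18_96 : ∀ i, i < 15 → Px C17 Cfsg.Agent.TcData.Ly.Syl.U.X381 C18 (i + 96) := by decide +kernel

theorem c26_0 : ∀ i, i < 16 → Px (I .d) (M .b) C26 (i + 0) := by decide +kernel

theorem c26_16 : ∀ i, i < 16 → Px (I .d) (M .b) C26 (i + 16) := by decide +kernel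

theorem c26_32 : ∀ i, i < 16 → Px (I .d) (M .b) C26 (i + 32) := by decide +kernel

theorem c26_48 : ∀ i, i < 16 → Px (I .d) (M .b) C26 (i + 48) := by decide +kernel

theorem c26_64 : ∀ i, i < 16 → Px (I .d) (M .b) C26 (i + 64) := by decide +kernel

theorem c26_80 : ∀ i, i < 16 → Px (I .d) (M .b) C26 (i + 80) := by decide +kernel

theorem c26_96 : ∀ i, i < 15 → Px (I .d) (M .b) C26 (i + 96) := by decide +kernel

theorem c34_0 : ∀ i, i < 16 → Px C33 C30 C34 (i + 0) := by decide +kernel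

theorem c34_16 : ∀ i, i < 16 → Px C33 C30 C34 (i + 16) := by decide +kernel

theorem c34_32 : ∀ i, i < 16 → Px C33 C30 C34 (i + 32) := by decide +kernel

theorem c34_48 : ∀ i, i < 16 → Px C33 C30 C34 (i + 48) := by decide +kernel

theorem c34_64 : ∀ i, i < 16 → Px C33 C30 C34 (i + 64) := by decide +kernel

theorem c34_80 : ∀ i, i < 16 → Px C33 C30 C34 (i + 80) := by decide +kernel

theorem c34_96 : ∀ i, i < 15 → Px C33 C30 C34 (i + 96) := by decide +kernel

theorem c42_0 : ∀ i, i < 16 → Px C41 C25 C42 (i + 0) := by decide +kernel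

theorem c42_16 : ∀ i, i < 16 → Px C41 C25 C42 (i + 16) := by decide +kernel

theorem c42_32 : ∀ i, i < 16 → Px C41 C25 C42 (i + 32) := by decide +kernel

theorem c42_48 : ∀ i, i < 16 → Px C41 C25 C42 (i + 48) := by decide +kernel

theorem c42_64 : ∀ i, i < 16 → Px C41 C25 C42 (i + 64) := by decide +kernel

theorem c42_80 : ∀ i, i < 16 → Px C41 C25 C42 (i + 80) := by decide +kernel

theorem c42_96 : ∀ i, i < 15 → Px C41 C25 C42 (i + 96) := by decide +kernel

theorem c50_0 : ∀ i, i < 16 → Px C49 Cfsg.Agent.TcData.Ly.Syl.U.X561 C50 (i + 0) := by decide +kernel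

theorem c50_16 : ∀ i, i < 16 → Px C49 Cfsg.Agent.TcData.Ly.Syl.U.X561 C50 (i + 16) := by decide +kernel

theorem c50_32 : ∀ i, i < 16 → Px C49 Cfsg.Agent.TcData.Ly.Syl.U.X561 C50 (i + 32) := by decide +kernel

theorem c50_48 : ∀ i, i < 16 → Px C49 Cfsg.Agent.TcData.Ly.Syl.U.X561 C50 (i + 48) := by decide +kernel

theorem c50_64 : ∀ i, i < 16 → Px C49 Cfsg.Agent.TcData.Ly.Syl.U.X561 C50 (i + 64) := by decide +kernel

theorem c50_80 : ∀ i, i < 16 → Px C49 Cfsg.Agent.TcData.Ly.Syl.U.X561 C50 (i + 80) := by decide +kernel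

theorem c50_96 : ∀ i, i < 15 → Px C49 Cfsg.Agent.TcData.Ly.Syl.U.X561 C50 (i + 96) := by decide +kernel

theorem c58_0 : ∀ i, i < 16 → Qx C56 C58 (i + 0) := by decide +kernel

theorem c58_16 : ∀ i, i < 16 → Qx C56 C58 (i + 16) := by decide +kernel

theorem c58_32 : ∀ i, i < 16 → Qx C56 C58 (i + 32) := by decide +kernel

theorem c58_48 : ∀ i, i < 16 → Qx C56 C58 (i + 48) := by decide +kernel

theorem c58_64 : ∀ i, i < 16 → Qx C56 C58 (i + 64) := by decide +kernel

theorem c58_80 : ∀ i, i < 16 → Qx C56 C58 (i + 80) := by decide +kernel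

theorem c58_96 : ∀ i, i < 15 → Qx C56 C58 (i + 96) := by decide +kernel

theorem c67_0 : ∀ i, i < 16 → Px C66 (M .z) C67 (i + 0) := by decide +kernel

theorem c67_16 : ∀ i, i < 16 → Px C66 (M .z) C67 (i + 16) := by decide +kernel

theorem c67_32 : ∀ i, i < 16 → Px C66 (M .z) C67 (i + 32) := by decide +kernel

theorem c67_48 : ∀ i, i < 16 → Px C66 (M .z) C67 (i + 48) := by decide +kernel

theorem c67_64 : ∀ i, i < 16 → Px C66 (M .z) C67 (i + 64) := by decide +kernel

theorem c67_80 : ∀ i, i < 16 → Px C66 (M .z) C67 (i + 80) := by decide +kernel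

theorem c67_96 : ∀ i, i < 15 → Px C66 (M .z) C67 (i + 96) := by decide +kernel

theorem c75_0 : ∀ i, i < 16 → Px C74 C25 C75 (i + 0) := by decide +kernel

theorem c75_16 : ∀ i, i < 16 → Px C74 C25 C75 (i + 16) := by decide +kernel

theorem c75_32 : ∀ i, i < 16 → Px C74 C25 C75 (i + 32) := by decide +kernel

theorem c75_48 : ∀ i, i < 16 → Px C74 C25 C75 (i + 48) := by decide +kernel

theorem c75_64 : ∀ i, i < 16 → Px C74 C25 C75 (i + 64) := by decide +kernel

theorem c75_80 : ∀ i, i < 16 → Px C74 C25 C75 (i + 80) := by decide +kernel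

theorem c75_96 : ∀ i, i < 15 → Px C74 C25 C75 (i + 96) := by decide +kernel

theorem c83_0 : ∀ i, i < 16 → Px C82 (I .c) C83 (i + 0) := by decide +kernel

theorem c83_16 : ∀ i, i < 16 → Px C82 (I .c) C83 (i + 16) := by decide +kernel

theorem c83_32 : ∀ i, i < 16 → Px C82 (I .c) C83 (i + 32) := by decide +kernel

theorem c83_48 : ∀ i, i < 16 → Px C82 (I .c) C83 (i + 48) := by decide +kernel

theorem c83_64 : ∀ i, i < 16 → Px C82 (I .c) C83 (i + 64) := by decide +kernel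

theorem c83_80 : ∀ i, i < 16 → Px C82 (I .c) C83 (i + 80) := by decide +kernel

theorem c83_96 : ∀ i, i < 15 → Px C82 (I .c) C83 (i + 96) := by decide +kernel

theorem c91_0 : ∀ i, i < 16 → Px C90 Cfsg.Agent.TcData.Ly.Syl.U.X561 C91 (i + 0) := by decide +kernel

theorem c91_16 : ∀ i, i < 16 → Px C90 Cfsg.Agent.TcData.Ly.Syl.U.X561 C91 (i + 16) := by decide +kernel

theorem c91_32 : ∀ i, i < 16 → Px C90 Cfsg.Agent.TcData.Ly.Syl.U.X561 C91 (i + 32) := by decide +kernel

theorem c91_48 : ∀ i, i < 16 → Px C90 Cfsg.Agent.TcData.Ly.Syl.U.X561 C91 (i + 48) := by decide +kernel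

theorem c91_64 : ∀ i, i < 16 → Px C90 Cfsg.Agent.TcData.Ly.Syl.U.X561 C91 (i + 64) := by decide +kernel

theorem c91_80 : ∀ i, i < 16 → Px C90 Cfsg.Agent.TcData.Ly.Syl.U.X561 C91 (i + 80) := by decide +kernel

theorem c91_96 : ∀ i, i < 15 → Px C90 Cfsg.Agent.TcData.Ly.Syl.U.X561 C91 (i + 96) := by decide +kernel

theorem c99_0 : ∀ i, i < 16 → Px C98 C95 C99 (i + 0) := by decide +kernel

theorem c99_16 : ∀ i, i < 16 → Px C98 C95 C99 (i + 16) := by decide +kernel

theorem c99_32 : ∀ i, i < 16 → Px C98 C95 C99 (i + 32) := by decide +kernel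

theorem c99_48 : ∀ i, i < 16 → Px C98 C95 C99 (i + 48) := by decide +kernel

theorem c99_64 : ∀ i, i < 16 → Px C98 C95 C99 (i + 64) := by decide +kernel

theorem c99_80 : ∀ i, i < 16 → Px C98 C95 C99 (i + 80) := by decide +kernel

theorem c99_96 : ∀ i, i < 15 → Px C98 C95 C99 (i + 96) := by decide +kernel

theorem c117_0 : ∀ i, i < 16 → Px C116 C115 C117 (i + 0) := by decide +kernel

theorem c117_16 : ∀ i, i < 16 → Px C116 C115 C117 (i + 16) := by decide +kernel

theorem c117_32 : ∀ i, i < 16 → Px C116 C115 C117 (i + 32) := by decide +kernel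

theorem c117_48 : ∀ i, i < 16 → Px C116 C115 C117 (i + 48) := by decide +kernel

theorem c117_64 : ∀ i, i < 16 → Px C116 C115 C117 (i + 64) := by decide +kernel

theorem c117_80 : ∀ i, i < 16 → Px C116 C115 C117 (i + 80) := by decide +kernel

theorem c117_96 : ∀ i, i < 15 → Px C116 C115 C117 (i + 96) := by decide +kernel

theorem c125_0 : ∀ i, i < 16 → Px C99 C48 C125 (i + 0) := by decide +kernel

theorem c125_16 : ∀ i, i < 16 → Px C99 C48 C125 (i + 16) := by decide +kernel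

theorem c125_32 : ∀ i, i < 16 → Px C99 C48 C125 (i + 32) := by decide +kernel

theorem c125_48 : ∀ i, i < 16 → Px C99 C48 C125 (i + 48) := by decide +kernel

theorem c125_64 : ∀ i, i < 16 → Px C99 C48 C125 (i + 64) := by decide +kernel

theorem c125_80 : ∀ i, i < 16 → Px C99 C48 C125 (i + 80) := by decide +kernel

theorem c125_96 : ∀ i, i < 15 → Px C99 C48 C125 (i + 96) := by decide +kernel

theorem c135_0 : ∀ i, i < 16 → Px C118 C134 C135 (i + 0) := by decide +kernel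

theorem c135_16 : ∀ i, i < 16 → Px C118 C134 C135 (i + 16) := by decide +kernel

theorem c135_32 : ∀ i, i < 16 → Px C118 C134 C135 (i + 32) := by decide +kernel

theorem c135_48 : ∀ i, i < 16 → Px C118 C134 C135 (i + 48) := by decide +kernel

theorem c135_64 : ∀ i, i < 16 → Px C118 C134 C135 (i + 64) := by decide +kernel

theorem c135_80 : ∀ i, i < 16 → Px C118 C134 C135 (i + 80) := by decide +kernel

theorem c135_96 : ∀ i, i < 15 → Px C118 C134 C135 (i + 96) := by decide +kernel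


end Cfsg.Agent.TcData.LyMT
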