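import Mathlib
import Cfsg.Agent.TcData.LyMT.Lits


set_option autoImplicit false
set_option Elab.async false
set_option maxRecDepth 100000
set_option linter.all false
set_option maxHeartbeats 0

namespace Cfsg.Agent.TcData.LyMT

open Cfsg.Spor.Ly Cfsg.Agent.Lib.LyDce Cfsg.Agent.Lib.FpVec Cfsg.Agent.Lib.LyV111 Cfsg.Agent.Lib.LyMultB

theorem w14_0 : ∀ i, i < 16 → WP [C127,C136] [Cfsg.Agent.TcData.Ly.Syl.U.X381,Cfsg.Agent.TcData.Ly.Syl.U.X381,C136,C138,C138,C140,C127] (i + 0) := by decide +kernel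

theorem w14_16 : ∀ i, i < 16 → WP [C127,C136] [Cfsg.Agent.TcData.Ly.Syl.U.X381,Cfsg.Agent.TcData.Ly.Syl.U.X381,C136,C138,C138,C140,C127] (i + 16) := by decide +kernel

theorem w14_32 : ∀ i, i < 16 → WP [C127,C136] [Cfsg.Agent.TcData.Ly.Syl.U.X381,Cfsg.Agent.TcData.Ly.Syl.U.X381,C136,C138,C138,C140,C127] (i + 32) := by decide +kernel

theorem w14_48 : ∀ i, i < 16 → WP [C127,C136] [Cfsg.Agent.TcData.Ly.Syl.U.X381,Cfsg.Agent.TcData.Ly.Syl.U.X381,C136,C138,C138,C140,C127] (i + 48) := by decide +kernel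

theorem w14_64 : ∀ i, i < 16 → WP [C127,C136] [Cfsg.Agent.TcData.Ly.Syl.U.X381,Cfsg.Agent.TcData.Ly.Syl.U.X381,C136,C138,C138,C140,C127] (i + 64) := by decide +kernel

theorem w14_80 : ∀ i, i < 16 → WP [C127,C136] [Cfsg.Agent.TcData.Ly.Syl.U.X381,Cfsg.Agent.TcData.Ly.Syl.U.X381,C136,C138,C138,C140,C127] (i + 80) := by decide +kernel

theorem w14_96 : ∀ i, i < 15 → WP [C127,C136] [Cfsg.Agent.TcData.Ly.Syl.U.X381,Cfsg.Agent.TcData.Ly.Syl.U.X381,C136,C138,C138,C140,C127] (i + 96) := by decide +kernel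

theorem w18_0 : ∀ i, i < 16 → WP [C129,C134] [C134,C134,C129] (i + 0) := by decide +kernel

theorem w18_16 : ∀ i, i < 16 → WP [C129,C134] [C134,C134,C129] (i + 16) := by decide +kernel

theorem w18_32 : ∀ i, i < 16 → WP [C129,C134] [C134,C134,C129] (i + 32) := by decide +kernel

theorem w18_48 : ∀ i, i < 16 → WP [C129,C134] [C134,C134,C129] (i + 48) := by decide +kernel

theorem w18_64 : ∀ i, i < 16 → WP [C129,C134] [C134,C134,C129] (i + 64) := by decide +kernel

theorem w18_80 : ∀ i, i < 16 → WP [C129,C134] [C134,C134,C129] (i + 80) := by decide +kernel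

theorem w18_96 : ∀ i, i < 15 → WP [C129,C134] [C134,C134,C129] (i + 96) := by decide +kernel

theorem w13_0 : ∀ i, i < 16 → WP [C127,C134] [C136,C127] (i + 0) := by decide +kernel

theorem w13_16 : ∀ i, i < 16 → WP [C127,C134] [C136,C127] (i + 16) := by decide +kernel

theorem w13_32 : ∀ i, i < 16 → WP [C127,C134] [C136,C127] (i + 32) := by decide +kernel

theorem w13_48 : ∀ i, i < 16 → WP [C127,C134] [C136,C127] (i + 48) := by decide +kernel

theorem w13_64 : ∀ i, i < 16 → WP [C127,C134] [C136,C127] (i + 64) := by decide +kernel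

theorem w13_80 : ∀ i, i < 16 → WP [C127,C134] [C136,C127] (i + 80) := by decide +kernel

theorem w13_96 : ∀ i, i < 15 → WP [C127,C134] [C136,C127] (i + 96) := by decide +kernel

theorem c19_0 : ∀ i, i < 16 → Px C18 Cfsg.Agent.TcData.Ly.Syl.U.X381 C19 (i + 0) := by decide +kernel

theorem c19_16 : ∀ i, i < 16 → Px C18 Cfsg.Agent.TcData.Ly.Syl.U.X381 C19 (i + 16) := by decide +kernel

theorem c19_32 : ∀ i, i < 16 → Px C18 Cfsg.Agent.TcData.Ly.Syl.U.X381 C19 (i + 32) := by decide +kernel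

theorem c19_48 : ∀ i, i < 16 → Px C18 Cfsg.Agent.TcData.Ly.Syl.U.X381 C19 (i + 48) := by decide +kernel

theorem c19_64 : ∀ i, i < 16 → Px C18 Cfsg.Agent.TcData.Ly.Syl.U.X381 C19 (i + 64) := by decide +kernel

theorem c19_80 : ∀ i, i < 16 → Px C18 Cfsg.Agent.TcData.Ly.Syl.U.X381 C19 (i + 80) := by decide +kernel

theorem c19_96 : ∀ i, i < 15 → Px C18 Cfsg.Agent.TcData.Ly.Syl.U.X381 C19 (i + 96) := by decide +kernel

theorem c27_0 : ∀ i, i < 16 → Px C26 (I .a) C27 (i + 0) := by decide +kernel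

theorem c27_16 : ∀ i, i < 16 → Px C26 (I .a) C27 (i + 16) := by decide +kernel

theorem c27_32 : ∀ i, i < 16 → Px C26 (I .a) C27 (i + 32) := by decide +kernel

theorem c27_48 : ∀ i, i < 16 → Px C26 (I .a) C27 (i + 48) := by decide +kernel

theorem c27_64 : ∀ i, i < 16 → Px C26 (I .a) C27 (i + 64) := by decide +kernel

theorem c27_80 : ∀ i, i < 16 → Px C26 (I .a) C27 (i + 80) := by decide +kernel

theorem c27_96 : ∀ i, i < 15 → Px C26 (I .a) C27 (i + 96) := by decide +kernel

theorem c35_0 : ∀ i, i < 16 → Px C34 C25 C35 (i + 0) := by decide +kernel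

theorem c35_16 : ∀ i, i < 16 → Px C34 C25 C35 (i + 16) := by decide +kernel

theorem c35_32 : ∀ i, i < 16 → Px C34 C25 C35 (i + 32) := by decide +kernel

theorem c35_48 : ∀ i, i < 16 → Px C34 C25 C35 (i + 48) := by decide +kernel

theorem c35_64 : ∀ i, i < 16 → Px C34 C25 C35 (i + 64) := by decide +kernel

theorem c35_80 : ∀ i, i < 16 → Px C34 C25 C35 (i + 80) := by decide +kernel

theorem c35_96 : ∀ i, i < 15 → Px C34 C25 C35 (i + 96) := by decide +kernel

theorem c43_0 : ∀ i, i < 16 → Px C42 C32 C43 (i + 0) := by decide +kernel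

theorem c43_16 : ∀ i, i < 16 → Px C42 C32 C43 (i + 16) := by decide +kernel

theorem c43_32 : ∀ i, i < 16 → Px C42 C32 C43 (i + 32) := by decide +kernel

theorem c43_48 : ∀ i, i < 16 → Px C42 C32 C43 (i + 48) := by decide +kernel

theorem c43_64 : ∀ i, i < 16 → Px C42 C32 C43 (i + 64) := by decide +kernel

theorem c43_80 : ∀ i, i < 16 → Px C42 C32 C43 (i + 80) := by decide +kernel

theorem c43_96 : ∀ i, i < 15 → Px C42 C32 C43 (i + 96) := by decide +kernel

theorem c51_0 : ∀ i, i < 16 → Px C50 Cfsg.Agent.TcData.Ly.Syl.U.X561 C51 (i + 0) := by decide +kernel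

theorem c51_16 : ∀ i, i < 16 → Px C50 Cfsg.Agent.TcData.Ly.Syl.U.X561 C51 (i + 16) := by decide +kernel

theorem c51_32 : ∀ i, i < 16 → Px C50 Cfsg.Agent.TcData.Ly.Syl.U.X561 C51 (i + 32) := by decide +kernel

theorem c51_48 : ∀ i, i < 16 → Px C50 Cfsg.Agent.TcData.Ly.Syl.U.X561 C51 (i + 48) := by decide +kernel

theorem c51_64 : ∀ i, i < 16 → Px C50 Cfsg.Agent.TcData.Ly.Syl.U.X561 C51 (i + 64) := by decide +kernel

theorem c51_80 : ∀ i, i < 16 → Px C50 Cfsg.Agent.TcData.Ly.Syl.U.X561 C51 (i + 80) := by decide +kernel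

theorem c51_96 : ∀ i, i < 15 → Px C50 Cfsg.Agent.TcData.Ly.Syl.U.X561 C51 (i + 96) := by decide +kernel

theorem c59_0 : ∀ i, i < 16 → Px C58 C57 C59 (i + 0) := by decide +kernel

theorem c59_16 : ∀ i, i < 16 → Px C58 C57 C59 (i + 16) := by decide +kernel

theorem c59_32 : ∀ i, i < 16 → Px C58 C57 C59 (i + 32) := by decide +kernel

theorem c59_48 : ∀ i, i < 16 → Px C58 C57 C59 (i + 48) := by decide +kernel

theorem c59_64 : ∀ i, i < 16 → Px C58 C57 C59 (i + 64) := by decide +kernel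

theorem c59_80 : ∀ i, i < 16 → Px C58 C57 C59 (i + 80) := by decide +kernel

theorem c59_96 : ∀ i, i < 15 → Px C58 C57 C59 (i + 96) := by decide +kernel

theorem c68_0 : ∀ i, i < 16 → Px C67 (M .c) C68 (i + 0) := by decide +kernel

theorem c68_16 : ∀ i, i < 16 → Px C67 (M .c) C68 (i + 16) := by decide +kernel

theorem c68_32 : ∀ i, i < 16 → Px C67 (M .c) C68 (i + 32) := by decide +kernel

theorem c68_48 : ∀ i, i < 16 → Px C67 (M .c) C68 (i + 48) := by decide +kernel

theorem c68_64 : ∀ i, i < 16 → Px C67 (M .c) C68 (i + 64) := by decide +kernel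

theorem c68_80 : ∀ i, i < 16 → Px C67 (M .c) C68 (i + 80) := by decide +kernel

theorem c68_96 : ∀ i, i < 15 → Px C67 (M .c) C68 (i + 96) := by decide +kernel

theorem c76_0 : ∀ i, i < 16 → Qx C75 C76 (i + 0) := by decide +kernel

theorem c76_16 : ∀ i, i < 16 → Qx C75 C76 (i + 16) := by decide +kernel

theorem c76_32 : ∀ i, i < 16 → Qx C75 C76 (i + 32) := by decide +kernel

theorem c76_48 : ∀ i, i < 16 → Qx C75 C76 (i + 48) := by decide +kernel

theorem c76_64 : ∀ i, i < 16 → Qx C75 C76 (i + 64) := by decide +kernel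

theorem c76_80 : ∀ i, i < 16 → Qx C75 C76 (i + 80) := by decide +kernel

theorem c76_96 : ∀ i, i < 15 → Qx C75 C76 (i + 96) := by decide +kernel

theorem c84_0 : ∀ i, i < 16 → Px C83 (I .b) C84 (i + 0) := by decide +kernel

theorem c84_16 : ∀ i, i < 16 → Px C83 (I .b) C84 (i + 16) := by decide +kernel

theorem c84_32 : ∀ i, i < 16 → Px C83 (I .b) C84 (i + 32) := by decide +kernel

theorem c84_48 : ∀ i, i < 16 → Px C83 (I .b) C84 (i + 48) := by decide +kernel

theorem c84_64 : ∀ i, i < 16 → Px C83 (I .b) C84 (i + 64) := by decide +kernel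

theorem c84_80 : ∀ i, i < 16 → Px C83 (I .b) C84 (i + 80) := by decide +kernel

theorem c84_96 : ∀ i, i < 15 → Px C83 (I .b) C84 (i + 96) := by decide +kernel

theorem c92_0 : ∀ i, i < 16 → Px C91 C25 C92 (i + 0) := by decide +kernel

theorem c92_16 : ∀ i, i < 16 → Px C91 C25 C92 (i + 16) := by decide +kernel

theorem c92_32 : ∀ i, i < 16 → Px C91 C25 C92 (i + 32) := by decide +kernel

theorem c92_48 : ∀ i, i < 16 → Px C91 C25 C92 (i + 48) := by decide +kernel

theorem c92_64 : ∀ i, i < 16 → Px C91 C25 C92 (i + 64) := by decide +kernel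

theorem c92_80 : ∀ i, i < 16 → Px C91 C25 C92 (i + 80) := by decide +kernel

theorem c92_96 : ∀ i, i < 15 → Px C91 C25 C92 (i + 96) := by decide +kernel

theorem c100_0 : ∀ i, i < 16 → Px C95 C77 C100 (i + 0) := by decide +kernel

theorem c100_16 : ∀ i, i < 16 → Px C95 C77 C100 (i + 16) := by decide +kernel

theorem c100_32 : ∀ i, i < 16 → Px C95 C77 C100 (i + 32) := by decide +kernel

theorem c100_48 : ∀ i, i < 16 → Px C95 C77 C100 (i + 48) := by decide +kernel

theorem c100_64 : ∀ i, i < 16 → Px C95 C77 C100 (i + 64) := by decide +kernel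

theorem c100_80 : ∀ i, i < 16 → Px C95 C77 C100 (i + 80) := by decide +kernel

theorem c100_96 : ∀ i, i < 15 → Px C95 C77 C100 (i + 96) := by decide +kernel

theorem c118_0 : ∀ i, i < 16 → Px C100 C117 C118 (i + 0) := by decide +kernel

theorem c118_16 : ∀ i, i < 16 → Px C100 C117 C118 (i + 16) := by decide +kernel

theorem c118_32 : ∀ i, i < 16 → Px C100 C117 C118 (i + 32) := by decide +kernel

theorem c118_48 : ∀ i, i < 16 → Px C100 C117 C118 (i + 48) := by decide +kernel

theorem c118_64 : ∀ i, i < 16 → Px C100 C117 C118 (i + 64) := by decide +kernel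

theorem c118_80 : ∀ i, i < 16 → Px C100 C117 C118 (i + 80) := by decide +kernel

theorem c118_96 : ∀ i, i < 15 → Px C100 C117 C118 (i + 96) := by decide +kernel

theorem c126_0 : ∀ i, i < 16 → Px C125 C124 C126 (i + 0) := by decide +kernel

theorem c126_16 : ∀ i, i < 16 → Px C125 C124 C126 (i + 16) := by decide +kernel

theorem c126_32 : ∀ i, i < 16 → Px C125 C124 C126 (i + 32) := by decide +kernel

theorem c126_48 : ∀ i, i < 16 → Px C125 C124 C126 (i + 48) := by decide +kernel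

theorem c126_64 : ∀ i, i < 16 → Px C125 C124 C126 (i + 64) := by decide +kernel

theorem c126_80 : ∀ i, i < 16 → Px C125 C124 C126 (i + 80) := by decide +kernel

theorem c126_96 : ∀ i, i < 15 → Px C125 C124 C126 (i + 96) := by decide +kernel

theorem c136_0 : ∀ i, i < 16 → Px C135 C132 C136 (i + 0) := by decide +kernel

theorem c136_16 : ∀ i, i < 16 → Px C135 C132 C136 (i + 16) := by decide +kernel

theorem c136_32 : ∀ i, i < 16 → Px C135 C132 C136 (i + 32) := by decide +kernel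

theorem c136_48 : ∀ i, i < 16 → Px C135 C132 C136 (i + 48) := by decide +kernel

theorem c136_64 : ∀ i, i < 16 → Px C135 C132 C136 (i + 64) := by decide +kernel

theorem c136_80 : ∀ i, i < 16 → Px C135 C132 C136 (i + 80) := by decide +kernel

theorem c136_96 : ∀ i, i < 15 → Px C135 C132 C136 (i + 96) := by decide +kernel


end Cfsg.Agent.TcData.LyMT
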