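import Mathlib
import Cfsg.Agent.TcData.LyMT.Lits


set_option autoImplicit false
set_option Elab.async false
set_option maxRecDepth 100000
set_option linter.all false
set_option maxHeartbeats 0

namespace Cfsg.Agent.TcData.LyMT

open Cfsg.Spor.Ly Cfsg.Agent.Lib.LyDce Cfsg.Agent.Lib.FpVec Cfsg.Agent.Lib.LyV111 Cfsg.Agent.Lib.LyMultB

theorem w17_0 : ∀ i, i < 16 → WP [C129,Cfsg.Agent.TcData.Ly.Syl.U.X381] [Cfsg.Agent.TcData.Ly.Syl.U.X381,Cfsg.Agent.TcData.Ly.Syl.U.X381,C136,C138,C138,C140,C129] (i + 0) := by decide +kernel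

theorem w17_16 : ∀ i, i < 16 → WP [C129,Cfsg.Agent.TcData.Ly.Syl.U.X381] [Cfsg.Agent.TcData.Ly.Syl.U.X381,Cfsg.Agent.TcData.Ly.Syl.U.X381,C136,C138,C138,C140,C129] (i + 16) := by decide +kernel

theorem w17_32 : ∀ i, i < 16 → WP [C129,Cfsg.Agent.TcData.Ly.Syl.U.X381] [Cfsg.Agent.TcData.Ly.Syl.U.X381,Cfsg.Agent.TcData.Ly.Syl.U.X381,C136,C138,C138,C140,C129] (i + 32) := by decide +kernel

theorem w17_48 : ∀ i, i < 16 → WP [C129,Cfsg.Agent.TcData.Ly.Syl.U.X381] [Cfsg.Agent.TcData.Ly.Syl.U.X381,Cfsg.Agent.TcData.Ly.Syl.U.X381,C136,C138,C138,C140,C129] (i + 48) := by decide +kernel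

theorem w17_64 : ∀ i, i < 16 → WP [C129,Cfsg.Agent.TcData.Ly.Syl.U.X381] [Cfsg.Agent.TcData.Ly.Syl.U.X381,Cfsg.Agent.TcData.Ly.Syl.U.X381,C136,C138,C138,C140,C129] (i + 64) := by decide +kernel

theorem w17_80 : ∀ i, i < 16 → WP [C129,Cfsg.Agent.TcData.Ly.Syl.U.X381] [Cfsg.Agent.TcData.Ly.Syl.U.X381,Cfsg.Agent.TcData.Ly.Syl.U.X381,C136,C138,C138,C140,C129] (i + 80) := by decide +kernel

theorem w17_96 : ∀ i, i < 15 → WP [C129,Cfsg.Agent.TcData.Ly.Syl.U.X381] [Cfsg.Agent.TcData.Ly.Syl.U.X381,Cfsg.Agent.TcData.Ly.Syl.U.X381,C136,C138,C138,C140,C129] (i + 96) := by decide +kernel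

theorem w20_0 : ∀ i, i < 16 → WP [C129,C138] [C138,C138,C129] (i + 0) := by decide +kernel

theorem w20_16 : ∀ i, i < 16 → WP [C129,C138] [C138,C138,C129] (i + 16) := by decide +kernel

theorem w20_32 : ∀ i, i < 16 → WP [C129,C138] [C138,C138,C129] (i + 32) := by decide +kernel

theorem w20_48 : ∀ i, i < 16 → WP [C129,C138] [C138,C138,C129] (i + 48) := by decide +kernel

theorem w20_64 : ∀ i, i < 16 → WP [C129,C138] [C138,C138,C129] (i + 64) := by decide +kernel

theorem w20_80 : ∀ i, i < 16 → WP [C129,C138] [C138,C138,C129] (i + 80) := by decide +kernel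

theorem w20_96 : ∀ i, i < 15 → WP [C129,C138] [C138,C138,C129] (i + 96) := by decide +kernel

theorem w16_0 : ∀ i, i < 16 → WP [C127,C140] [C140,C127] (i + 0) := by decide +kernel

theorem w16_16 : ∀ i, i < 16 → WP [C127,C140] [C140,C127] (i + 16) := by decide +kernel

theorem w16_32 : ∀ i, i < 16 → WP [C127,C140] [C140,C127] (i + 32) := by decide +kernel

theorem w16_48 : ∀ i, i < 16 → WP [C127,C140] [C140,C127] (i + 48) := by decide +kernel

theorem w16_64 : ∀ i, i < 16 → WP [C127,C140] [C140,C127] (i + 64) := by decide +kernel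

theorem w16_80 : ∀ i, i < 16 → WP [C127,C140] [C140,C127] (i + 80) := by decide +kernel

theorem w16_96 : ∀ i, i < 15 → WP [C127,C140] [C140,C127] (i + 96) := by decide +kernel

theorem c20_0 : ∀ i, i < 16 → Px C19 Cfsg.Agent.TcData.Ly.Syl.U.X561 C20 (i + 0) := by decide +kernel

theorem c20_16 : ∀ i, i < 16 → Px C19 Cfsg.Agent.TcData.Ly.Syl.U.X561 C20 (i + 16) := by decide +kernel

theorem c20_32 : ∀ i, i < 16 → Px C19 Cfsg.Agent.TcData.Ly.Syl.U.X561 C20 (i + 32) := by decide +kernel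

theorem c20_48 : ∀ i, i < 16 → Px C19 Cfsg.Agent.TcData.Ly.Syl.U.X561 C20 (i + 48) := by decide +kernel

theorem c20_64 : ∀ i, i < 16 → Px C19 Cfsg.Agent.TcData.Ly.Syl.U.X561 C20 (i + 64) := by decide +kernel

theorem c20_80 : ∀ i, i < 16 → Px C19 Cfsg.Agent.TcData.Ly.Syl.U.X561 C20 (i + 80) := by decide +kernel

theorem c20_96 : ∀ i, i < 15 → Px C19 Cfsg.Agent.TcData.Ly.Syl.U.X561 C20 (i + 96) := by decide +kernel

theorem c28_0 : ∀ i, i < 16 → Qx C27 C28 (i + 0) := by decide +kernel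

theorem c28_16 : ∀ i, i < 16 → Qx C27 C28 (i + 16) := by decide +kernel

theorem c28_32 : ∀ i, i < 16 → Qx C27 C28 (i + 32) := by decide +kernel

theorem c28_48 : ∀ i, i < 16 → Qx C27 C28 (i + 48) := by decide +kernel

theorem c28_64 : ∀ i, i < 16 → Qx C27 C28 (i + 64) := by decide +kernel

theorem c28_80 : ∀ i, i < 16 → Qx C27 C28 (i + 80) := by decide +kernel

theorem c28_96 : ∀ i, i < 15 → Qx C27 C28 (i + 96) := by decide +kernel

theorem c36_0 : ∀ i, i < 16 → Px C35 Cfsg.Agent.TcData.Ly.Syl.U.X561 C36 (i + 0) := by decide +kernel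

theorem c36_16 : ∀ i, i < 16 → Px C35 Cfsg.Agent.TcData.Ly.Syl.U.X561 C36 (i + 16) := by decide +kernel

theorem c36_32 : ∀ i, i < 16 → Px C35 Cfsg.Agent.TcData.Ly.Syl.U.X561 C36 (i + 32) := by decide +kernel

theorem c36_48 : ∀ i, i < 16 → Px C35 Cfsg.Agent.TcData.Ly.Syl.U.X561 C36 (i + 48) := by decide +kernel

theorem c36_64 : ∀ i, i < 16 → Px C35 Cfsg.Agent.TcData.Ly.Syl.U.X561 C36 (i + 64) := by decide +kernel

theorem c36_80 : ∀ i, i < 16 → Px C35 Cfsg.Agent.TcData.Ly.Syl.U.X561 C36 (i + 80) := by decide +kernel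

theorem c36_96 : ∀ i, i < 15 → Px C35 Cfsg.Agent.TcData.Ly.Syl.U.X561 C36 (i + 96) := by decide +kernel

theorem c44_0 : ∀ i, i < 16 → Px C43 C25 C44 (i + 0) := by decide +kernel

theorem c44_16 : ∀ i, i < 16 → Px C43 C25 C44 (i + 16) := by decide +kernel

theorem c44_32 : ∀ i, i < 16 → Px C43 C25 C44 (i + 32) := by decide +kernel

theorem c44_48 : ∀ i, i < 16 → Px C43 C25 C44 (i + 48) := by decide +kernel

theorem c44_64 : ∀ i, i < 16 → Px C43 C25 C44 (i + 64) := by decide +kernel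

theorem c44_80 : ∀ i, i < 16 → Px C43 C25 C44 (i + 80) := by decide +kernel

theorem c44_96 : ∀ i, i < 15 → Px C43 C25 C44 (i + 96) := by decide +kernel

theorem c52_0 : ∀ i, i < 16 → Px C51 C25 C52 (i + 0) := by decide +kernel

theorem c52_16 : ∀ i, i < 16 → Px C51 C25 C52 (i + 16) := by decide +kernel

theorem c52_32 : ∀ i, i < 16 → Px C51 C25 C52 (i + 32) := by decide +kernel

theorem c52_48 : ∀ i, i < 16 → Px C51 C25 C52 (i + 48) := by decide +kernel

theorem c52_64 : ∀ i, i < 16 → Px C51 C25 C52 (i + 64) := by decide +kernel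

theorem c52_80 : ∀ i, i < 16 → Px C51 C25 C52 (i + 80) := by decide +kernel

theorem c52_96 : ∀ i, i < 15 → Px C51 C25 C52 (i + 96) := by decide +kernel

theorem c61_0 : ∀ i, i < 16 → Px (I .c) (I .c) C61 (i + 0) := by decide +kernel

theorem c61_16 : ∀ i, i < 16 → Px (I .c) (I .c) C61 (i + 16) := by decide +kernel

theorem c61_32 : ∀ i, i < 16 → Px (I .c) (I .c) C61 (i + 32) := by decide +kernel

theorem c61_48 : ∀ i, i < 16 → Px (I .c) (I .c) C61 (i + 48) := by decide +kernel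

theorem c61_64 : ∀ i, i < 16 → Px (I .c) (I .c) C61 (i + 64) := by decide +kernel

theorem c61_80 : ∀ i, i < 16 → Px (I .c) (I .c) C61 (i + 80) := by decide +kernel

theorem c61_96 : ∀ i, i < 15 → Px (I .c) (I .c) C61 (i + 96) := by decide +kernel

theorem c69_0 : ∀ i, i < 16 → Px C68 (I .a) C69 (i + 0) := by decide +kernel

theorem c69_16 : ∀ i, i < 16 → Px C68 (I .a) C69 (i + 16) := by decide +kernel

theorem c69_32 : ∀ i, i < 16 → Px C68 (I .a) C69 (i + 32) := by decide +kernel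

theorem c69_48 : ∀ i, i < 16 → Px C68 (I .a) C69 (i + 48) := by decide +kernel

theorem c69_64 : ∀ i, i < 16 → Px C68 (I .a) C69 (i + 64) := by decide +kernel

theorem c69_80 : ∀ i, i < 16 → Px C68 (I .a) C69 (i + 80) := by decide +kernel

theorem c69_96 : ∀ i, i < 15 → Px C68 (I .a) C69 (i + 96) := by decide +kernel

theorem c77_0 : ∀ i, i < 16 → Px C76 C69 C77 (i + 0) := by decide +kernel

theorem c77_16 : ∀ i, i < 16 → Px C76 C69 C77 (i + 16) := by decide +kernel

theorem c77_32 : ∀ i, i < 16 → Px C76 C69 C77 (i + 32) := by decide +kernel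

theorem c77_48 : ∀ i, i < 16 → Px C76 C69 C77 (i + 48) := by decide +kernel

theorem c77_64 : ∀ i, i < 16 → Px C76 C69 C77 (i + 64) := by decide +kernel

theorem c77_80 : ∀ i, i < 16 → Px C76 C69 C77 (i + 80) := by decide +kernel

theorem c77_96 : ∀ i, i < 15 → Px C76 C69 C77 (i + 96) := by decide +kernel

theorem c85_0 : ∀ i, i < 16 → Px C84 (M .z) C85 (i + 0) := by decide +kernel

theorem c85_16 : ∀ i, i < 16 → Px C84 (M .z) C85 (i + 16) := by decide +kernel

theorem c85_32 : ∀ i, i < 16 → Px C84 (M .z) C85 (i + 32) := by decide +kernel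

theorem c85_48 : ∀ i, i < 16 → Px C84 (M .z) C85 (i + 48) := by decide +kernel

theorem c85_64 : ∀ i, i < 16 → Px C84 (M .z) C85 (i + 64) := by decide +kernel

theorem c85_80 : ∀ i, i < 16 → Px C84 (M .z) C85 (i + 80) := by decide +kernel

theorem c85_96 : ∀ i, i < 15 → Px C84 (M .z) C85 (i + 96) := by decide +kernel

theorem c93_0 : ∀ i, i < 16 → Px C92 C30 C93 (i + 0) := by decide +kernel

theorem c93_16 : ∀ i, i < 16 → Px C92 C30 C93 (i + 16) := by decide +kernel

theorem c93_32 : ∀ i, i < 16 → Px C92 C30 C93 (i + 32) := by decide +kernel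

theorem c93_48 : ∀ i, i < 16 → Px C92 C30 C93 (i + 48) := by decide +kernel

theorem c93_64 : ∀ i, i < 16 → Px C92 C30 C93 (i + 64) := by decide +kernel

theorem c93_80 : ∀ i, i < 16 → Px C92 C30 C93 (i + 80) := by decide +kernel

theorem c93_96 : ∀ i, i < 15 → Px C92 C30 C93 (i + 96) := by decide +kernel

theorem c101_0 : ∀ i, i < 16 → Px C47 C77 C101 (i + 0) := by decide +kernel

theorem c101_16 : ∀ i, i < 16 → Px C47 C77 C101 (i + 16) := by decide +kernel

theorem c101_32 : ∀ i, i < 16 → Px C47 C77 C101 (i + 32) := by decide +kernel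

theorem c101_48 : ∀ i, i < 16 → Px C47 C77 C101 (i + 48) := by decide +kernel

theorem c101_64 : ∀ i, i < 16 → Px C47 C77 C101 (i + 64) := by decide +kernel

theorem c101_80 : ∀ i, i < 16 → Px C47 C77 C101 (i + 80) := by decide +kernel

theorem c101_96 : ∀ i, i < 15 → Px C47 C77 C101 (i + 96) := by decide +kernel

theorem c119_0 : ∀ i, i < 16 → Qx C103 C119 (i + 0) := by decide +kernel

theorem c119_16 : ∀ i, i < 16 → Qx C103 C119 (i + 16) := by decide +kernel

theorem c119_32 : ∀ i, i < 16 → Qx C103 C119 (i + 32) := by decide +kernel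

theorem c119_48 : ∀ i, i < 16 → Qx C103 C119 (i + 48) := by decide +kernel

theorem c119_64 : ∀ i, i < 16 → Qx C103 C119 (i + 64) := by decide +kernel

theorem c119_80 : ∀ i, i < 16 → Qx C103 C119 (i + 80) := by decide +kernel

theorem c119_96 : ∀ i, i < 15 → Qx C103 C119 (i + 96) := by decide +kernel

theorem c127_0 : ∀ i, i < 16 → Px Cfsg.Agent.TcData.Ly.Syl.U.X561 C126 C127 (i + 0) := by decide +kernel

theorem c127_16 : ∀ i, i < 16 → Px Cfsg.Agent.TcData.Ly.Syl.U.X561 C126 C127 (i + 16) := by decide +kernel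

theorem c127_32 : ∀ i, i < 16 → Px Cfsg.Agent.TcData.Ly.Syl.U.X561 C126 C127 (i + 32) := by decide +kernel

theorem c127_48 : ∀ i, i < 16 → Px Cfsg.Agent.TcData.Ly.Syl.U.X561 C126 C127 (i + 48) := by decide +kernel

theorem c127_64 : ∀ i, i < 16 → Px Cfsg.Agent.TcData.Ly.Syl.U.X561 C126 C127 (i + 64) := by decide +kernel

theorem c127_80 : ∀ i, i < 16 → Px Cfsg.Agent.TcData.Ly.Syl.U.X561 C126 C127 (i + 80) := by decide +kernel

theorem c127_96 : ∀ i, i < 15 → Px Cfsg.Agent.TcData.Ly.Syl.U.X561 C126 C127 (i + 96) := by decide +kernel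

theorem c137_0 : ∀ i, i < 16 → Px C118 C136 C137 (i + 0) := by decide +kernel

theorem c137_16 : ∀ i, i < 16 → Px C118 C136 C137 (i + 16) := by decide +kernel

theorem c137_32 : ∀ i, i < 16 → Px C118 C136 C137 (i + 32) := by decide +kernel

theorem c137_48 : ∀ i, i < 16 → Px C118 C136 C137 (i + 48) := by decide +kernel

theorem c137_64 : ∀ i, i < 16 → Px C118 C136 C137 (i + 64) := by decide +kernel

theorem c137_80 : ∀ i, i < 16 → Px C118 C136 C137 (i + 80) := by decide +kernel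

theorem c137_96 : ∀ i, i < 15 → Px C118 C136 C137 (i + 96) := by decide +kernel


end Cfsg.Agent.TcData.LyMT
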