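import Mathlib
import Cfsg.Agent.TcData.LyMT.Lits


set_option autoImplicit false
set_option Elab.async false
set_option maxRecDepth 100000
set_option linter.all false
set_option maxHeartbeats 0

namespace Cfsg.Agent.TcData.LyMT

open Cfsg.Spor.Ly Cfsg.Agent.Lib.LyDce Cfsg.Agent.Lib.FpVec Cfsg.Agent.Lib.LyV111 Cfsg.Agent.Lib.LyMultB

theorem w11_0 : ∀ i, i < 16 → WP [C127,C129,C127,C129] [C129,C127,C129,C127] (i + 0) := by decide +kernel

theorem w11_16 : ∀ i, i < 16 → WP [C127,C129,C127,C129] [C129,C127,C129,C127] (i + 16) := by decide +kernel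

theorem w11_32 : ∀ i, i < 16 → WP [C127,C129,C127,C129] [C129,C127,C129,C127] (i + 32) := by decide +kernel

theorem w11_48 : ∀ i, i < 16 → WP [C127,C129,C127,C129] [C129,C127,C129,C127] (i + 48) := by decide +kernel

theorem w11_64 : ∀ i, i < 16 → WP [C127,C129,C127,C129] [C129,C127,C129,C127] (i + 64) := by decide +kernel

theorem w11_80 : ∀ i, i < 16 → WP [C127,C129,C127,C129] [C129,C127,C129,C127] (i + 80) := by decide +kernel

theorem w11_96 : ∀ i, i < 15 → WP [C127,C129,C127,C129] [C129,C127,C129,C127] (i + 96) := by decide +kernel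

theorem w23_0 : ∀ i, i < 16 → WP [Cfsg.Agent.TcData.Ly.Syl.U.X672] [C140,C140,C127,C129,C127,C129] (i + 0) := by decide +kernel

theorem w23_16 : ∀ i, i < 16 → WP [Cfsg.Agent.TcData.Ly.Syl.U.X672] [C140,C140,C127,C129,C127,C129] (i + 16) := by decide +kernel

theorem w23_32 : ∀ i, i < 16 → WP [Cfsg.Agent.TcData.Ly.Syl.U.X672] [C140,C140,C127,C129,C127,C129] (i + 32) := by decide +kernel

theorem w23_48 : ∀ i, i < 16 → WP [Cfsg.Agent.TcData.Ly.Syl.U.X672] [C140,C140,C127,C129,C127,C129] (i + 48) := by decide +kernel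

theorem w23_64 : ∀ i, i < 16 → WP [Cfsg.Agent.TcData.Ly.Syl.U.X672] [C140,C140,C127,C129,C127,C129] (i + 64) := by decide +kernel

theorem w23_80 : ∀ i, i < 16 → WP [Cfsg.Agent.TcData.Ly.Syl.U.X672] [C140,C140,C127,C129,C127,C129] (i + 80) := by decide +kernel

theorem w23_96 : ∀ i, i < 15 → WP [Cfsg.Agent.TcData.Ly.Syl.U.X672] [C140,C140,C127,C129,C127,C129] (i + 96) := by decide +kernel

theorem w10_0 : ∀ i, i < 16 → WP [C129,C129] [] (i + 0) := by decide +kernel

theorem w10_16 : ∀ i, i < 16 → WP [C129,C129] [] (i + 16) := by decide +kernel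

theorem w10_32 : ∀ i, i < 16 → WP [C129,C129] [] (i + 32) := by decide +kernel

theorem w10_48 : ∀ i, i < 16 → WP [C129,C129] [] (i + 48) := by decide +kernel

theorem w10_64 : ∀ i, i < 16 → WP [C129,C129] [] (i + 64) := by decide +kernel

theorem w10_80 : ∀ i, i < 16 → WP [C129,C129] [] (i + 80) := by decide +kernel

theorem w10_96 : ∀ i, i < 15 → WP [C129,C129] [] (i + 96) := by decide +kernel

theorem c13_0 : ∀ i, i < 16 → Px C12 Cfsg.Agent.TcData.Ly.Syl.U.X381 C13 (i + 0) := by decide +kernel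

theorem c13_16 : ∀ i, i < 16 → Px C12 Cfsg.Agent.TcData.Ly.Syl.U.X381 C13 (i + 16) := by decide +kernel

theorem c13_32 : ∀ i, i < 16 → Px C12 Cfsg.Agent.TcData.Ly.Syl.U.X381 C13 (i + 32) := by decide +kernel

theorem c13_48 : ∀ i, i < 16 → Px C12 Cfsg.Agent.TcData.Ly.Syl.U.X381 C13 (i + 48) := by decide +kernel

theorem c13_64 : ∀ i, i < 16 → Px C12 Cfsg.Agent.TcData.Ly.Syl.U.X381 C13 (i + 64) := by decide +kernel

theorem c13_80 : ∀ i, i < 16 → Px C12 Cfsg.Agent.TcData.Ly.Syl.U.X381 C13 (i + 80) := by decide +kernel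

theorem c13_96 : ∀ i, i < 15 → Px C12 Cfsg.Agent.TcData.Ly.Syl.U.X381 C13 (i + 96) := by decide +kernel

theorem c21_0 : ∀ i, i < 16 → Px C20 Cfsg.Agent.TcData.Ly.Syl.U.X381 C21 (i + 0) := by decide +kernel

theorem c21_16 : ∀ i, i < 16 → Px C20 Cfsg.Agent.TcData.Ly.Syl.U.X381 C21 (i + 16) := by decide +kernel

theorem c21_32 : ∀ i, i < 16 → Px C20 Cfsg.Agent.TcData.Ly.Syl.U.X381 C21 (i + 32) := by decide +kernel

theorem c21_48 : ∀ i, i < 16 → Px C20 Cfsg.Agent.TcData.Ly.Syl.U.X381 C21 (i + 48) := by decide +kernel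

theorem c21_64 : ∀ i, i < 16 → Px C20 Cfsg.Agent.TcData.Ly.Syl.U.X381 C21 (i + 64) := by decide +kernel

theorem c21_80 : ∀ i, i < 16 → Px C20 Cfsg.Agent.TcData.Ly.Syl.U.X381 C21 (i + 80) := by decide +kernel

theorem c21_96 : ∀ i, i < 15 → Px C20 Cfsg.Agent.TcData.Ly.Syl.U.X381 C21 (i + 96) := by decide +kernel

theorem c29_0 : ∀ i, i < 16 → Px C27 C22 C29 (i + 0) := by decide +kernel

theorem c29_16 : ∀ i, i < 16 → Px C27 C22 C29 (i + 16) := by decide +kernel

theorem c29_32 : ∀ i, i < 16 → Px C27 C22 C29 (i + 32) := by decide +kernel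

theorem c29_48 : ∀ i, i < 16 → Px C27 C22 C29 (i + 48) := by decide +kernel

theorem c29_64 : ∀ i, i < 16 → Px C27 C22 C29 (i + 64) := by decide +kernel

theorem c29_80 : ∀ i, i < 16 → Px C27 C22 C29 (i + 80) := by decide +kernel

theorem c29_96 : ∀ i, i < 15 → Px C27 C22 C29 (i + 96) := by decide +kernel

theorem c37_0 : ∀ i, i < 16 → Px C36 C30 C37 (i + 0) := by decide +kernel

theorem c37_16 : ∀ i, i < 16 → Px C36 C30 C37 (i + 16) := by decide +kernel

theorem c37_32 : ∀ i, i < 16 → Px C36 C30 C37 (i + 32) := by decide +kernel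

theorem c37_48 : ∀ i, i < 16 → Px C36 C30 C37 (i + 48) := by decide +kernel

theorem c37_64 : ∀ i, i < 16 → Px C36 C30 C37 (i + 64) := by decide +kernel

theorem c37_80 : ∀ i, i < 16 → Px C36 C30 C37 (i + 80) := by decide +kernel

theorem c37_96 : ∀ i, i < 15 → Px C36 C30 C37 (i + 96) := by decide +kernel

theorem c45_0 : ∀ i, i < 16 → Px Cfsg.Agent.TcData.Ly.Syl.U.X381 C38 C45 (i + 0) := by decide +kernel

theorem c45_16 : ∀ i, i < 16 → Px Cfsg.Agent.TcData.Ly.Syl.U.X381 C38 C45 (i + 16) := by decide +kernel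

theorem c45_32 : ∀ i, i < 16 → Px Cfsg.Agent.TcData.Ly.Syl.U.X381 C38 C45 (i + 32) := by decide +kernel

theorem c45_48 : ∀ i, i < 16 → Px Cfsg.Agent.TcData.Ly.Syl.U.X381 C38 C45 (i + 48) := by decide +kernel

theorem c45_64 : ∀ i, i < 16 → Px Cfsg.Agent.TcData.Ly.Syl.U.X381 C38 C45 (i + 64) := by decide +kernel

theorem c45_80 : ∀ i, i < 16 → Px Cfsg.Agent.TcData.Ly.Syl.U.X381 C38 C45 (i + 80) := by decide +kernel

theorem c45_96 : ∀ i, i < 15 → Px Cfsg.Agent.TcData.Ly.Syl.U.X381 C38 C45 (i + 96) := by decide +kernel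

theorem c53_0 : ∀ i, i < 16 → Px Cfsg.Agent.TcData.Ly.Syl.U.X672 C30 C53 (i + 0) := by decide +kernel

theorem c53_16 : ∀ i, i < 16 → Px Cfsg.Agent.TcData.Ly.Syl.U.X672 C30 C53 (i + 16) := by decide +kernel

theorem c53_32 : ∀ i, i < 16 → Px Cfsg.Agent.TcData.Ly.Syl.U.X672 C30 C53 (i + 32) := by decide +kernel

theorem c53_48 : ∀ i, i < 16 → Px Cfsg.Agent.TcData.Ly.Syl.U.X672 C30 C53 (i + 48) := by decide +kernel

theorem c53_64 : ∀ i, i < 16 → Px Cfsg.Agent.TcData.Ly.Syl.U.X672 C30 C53 (i + 64) := by decide +kernel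

theorem c53_80 : ∀ i, i < 16 → Px Cfsg.Agent.TcData.Ly.Syl.U.X672 C30 C53 (i + 80) := by decide +kernel

theorem c53_96 : ∀ i, i < 15 → Px Cfsg.Agent.TcData.Ly.Syl.U.X672 C30 C53 (i + 96) := by decide +kernel

theorem c62_0 : ∀ i, i < 16 → Px C61 (M .z) C62 (i + 0) := by decide +kernel

theorem c62_16 : ∀ i, i < 16 → Px C61 (M .z) C62 (i + 16) := by decide +kernel

theorem c62_32 : ∀ i, i < 16 → Px C61 (M .z) C62 (i + 32) := by decide +kernel

theorem c62_48 : ∀ i, i < 16 → Px C61 (M .z) C62 (i + 48) := by decide +kernel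

theorem c62_64 : ∀ i, i < 16 → Px C61 (M .z) C62 (i + 64) := by decide +kernel

theorem c62_80 : ∀ i, i < 16 → Px C61 (M .z) C62 (i + 80) := by decide +kernel

theorem c62_96 : ∀ i, i < 15 → Px C61 (M .z) C62 (i + 96) := by decide +kernel

theorem c70_0 : ∀ i, i < 16 → Px C32 C30 C70 (i + 0) := by decide +kernel

theorem c70_16 : ∀ i, i < 16 → Px C32 C30 C70 (i + 16) := by decide +kernel

theorem c70_32 : ∀ i, i < 16 → Px C32 C30 C70 (i + 32) := by decide +kernel

theorem c70_48 : ∀ i, i < 16 → Px C32 C30 C70 (i + 48) := by decide +kernel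

theorem c70_64 : ∀ i, i < 16 → Px C32 C30 C70 (i + 64) := by decide +kernel

theorem c70_80 : ∀ i, i < 16 → Px C32 C30 C70 (i + 80) := by decide +kernel

theorem c70_96 : ∀ i, i < 15 → Px C32 C30 C70 (i + 96) := by decide +kernel

theorem c78_0 : ∀ i, i < 16 → Px (M .z) (M .d) C78 (i + 0) := by decide +kernel

theorem c78_16 : ∀ i, i < 16 → Px (M .z) (M .d) C78 (i + 16) := by decide +kernel

theorem c78_32 : ∀ i, i < 16 → Px (M .z) (M .d) C78 (i + 32) := by decide +kernel

theorem c78_48 : ∀ i, i < 16 → Px (M .z) (M .d) C78 (i + 48) := by decide +kernel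

theorem c78_64 : ∀ i, i < 16 → Px (M .z) (M .d) C78 (i + 64) := by decide +kernel

theorem c78_80 : ∀ i, i < 16 → Px (M .z) (M .d) C78 (i + 80) := by decide +kernel

theorem c78_96 : ∀ i, i < 15 → Px (M .z) (M .d) C78 (i + 96) := by decide +kernel

theorem c86_0 : ∀ i, i < 16 → Px C85 (I .d) C86 (i + 0) := by decide +kernel

theorem c86_16 : ∀ i, i < 16 → Px C85 (I .d) C86 (i + 16) := by decide +kernel

theorem c86_32 : ∀ i, i < 16 → Px C85 (I .d) C86 (i + 32) := by decide +kernel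

theorem c86_48 : ∀ i, i < 16 → Px C85 (I .d) C86 (i + 48) := by decide +kernel

theorem c86_64 : ∀ i, i < 16 → Px C85 (I .d) C86 (i + 64) := by decide +kernel

theorem c86_80 : ∀ i, i < 16 → Px C85 (I .d) C86 (i + 80) := by decide +kernel

theorem c86_96 : ∀ i, i < 15 → Px C85 (I .d) C86 (i + 96) := by decide +kernel

theorem c94_0 : ∀ i, i < 16 → Qx C93 C94 (i + 0) := by decide +kernel

theorem c94_16 : ∀ i, i < 16 → Qx C93 C94 (i + 16) := by decide +kernel

theorem c94_32 : ∀ i, i < 16 → Qx C93 C94 (i + 32) := by decide +kernel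

theorem c94_48 : ∀ i, i < 16 → Qx C93 C94 (i + 48) := by decide +kernel

theorem c94_64 : ∀ i, i < 16 → Qx C93 C94 (i + 64) := by decide +kernel

theorem c94_80 : ∀ i, i < 16 → Qx C93 C94 (i + 80) := by decide +kernel

theorem c94_96 : ∀ i, i < 15 → Qx C93 C94 (i + 96) := by decide +kernel

theorem c102_0 : ∀ i, i < 16 → Px C101 C59 C102 (i + 0) := by decide +kernel

theorem c102_16 : ∀ i, i < 16 → Px C101 C59 C102 (i + 16) := by decide +kernel

theorem c102_32 : ∀ i, i < 16 → Px C101 C59 C102 (i + 32) := by decide +kernel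

theorem c102_48 : ∀ i, i < 16 → Px C101 C59 C102 (i + 48) := by decide +kernel

theorem c102_64 : ∀ i, i < 16 → Px C101 C59 C102 (i + 64) := by decide +kernel

theorem c102_80 : ∀ i, i < 16 → Px C101 C59 C102 (i + 80) := by decide +kernel

theorem c102_96 : ∀ i, i < 15 → Px C101 C59 C102 (i + 96) := by decide +kernel

theorem c120_0 : ∀ i, i < 16 → Px C99 C103 C120 (i + 0) := by decide +kernel

theorem c120_16 : ∀ i, i < 16 → Px C99 C103 C120 (i + 16) := by decide +kernel

theorem c120_32 : ∀ i, i < 16 → Px C99 C103 C120 (i + 32) := by decide +kernel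

theorem c120_48 : ∀ i, i < 16 → Px C99 C103 C120 (i + 48) := by decide +kernel

theorem c120_64 : ∀ i, i < 16 → Px C99 C103 C120 (i + 64) := by decide +kernel

theorem c120_80 : ∀ i, i < 16 → Px C99 C103 C120 (i + 80) := by decide +kernel

theorem c120_96 : ∀ i, i < 15 → Px C99 C103 C120 (i + 96) := by decide +kernel

theorem c128_0 : ∀ i, i < 16 → Px C123 C123 C128 (i + 0) := by decide +kernel

theorem c128_16 : ∀ i, i < 16 → Px C123 C123 C128 (i + 16) := by decide +kernel

theorem c128_32 : ∀ i, i < 16 → Px C123 C123 C128 (i + 32) := by decide +kernel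

theorem c128_48 : ∀ i, i < 16 → Px C123 C123 C128 (i + 48) := by decide +kernel

theorem c128_64 : ∀ i, i < 16 → Px C123 C123 C128 (i + 64) := by decide +kernel

theorem c128_80 : ∀ i, i < 16 → Px C123 C123 C128 (i + 80) := by decide +kernel

theorem c128_96 : ∀ i, i < 15 → Px C123 C123 C128 (i + 96) := by decide +kernel

theorem c138_0 : ∀ i, i < 16 → Px C137 C132 C138 (i + 0) := by decide +kernel

theorem c138_16 : ∀ i, i < 16 → Px C137 C132 C138 (i + 16) := by decide +kernel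

theorem c138_32 : ∀ i, i < 16 → Px C137 C132 C138 (i + 32) := by decide +kernel

theorem c138_48 : ∀ i, i < 16 → Px C137 C132 C138 (i + 48) := by decide +kernel

theorem c138_64 : ∀ i, i < 16 → Px C137 C132 C138 (i + 64) := by decide +kernel

theorem c138_80 : ∀ i, i < 16 → Px C137 C132 C138 (i + 80) := by decide +kernel

theorem c138_96 : ∀ i, i < 15 → Px C137 C132 C138 (i + 96) := by decide +kernel


end Cfsg.Agent.TcData.LyMT
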