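import Mathlib
import Cfsg.Agent.TcData.LyMT.Lits
import Cfsg.Agent.TcData.LyMT.Chk0
import Cfsg.Agent.TcData.LyMT.Chk1
import Cfsg.Agent.TcData.LyMT.Chk2
import Cfsg.Agent.TcData.LyMT.Chk3
import Cfsg.Agent.TcData.LyMT.Chk4
import Cfsg.Agent.TcData.LyMT.Chk5
import Cfsg.Agent.TcData.LyMT.Chk6
import Cfsg.Agent.TcData.LyMT.Chk7


set_option autoImplicit false
set_option Elab.async false
set_option maxRecDepth 100000
set_option linter.all false
set_option maxHeartbeats 0

namespace Cfsg.Agent.TcData.LyMT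

open Cfsg.Spor.Ly Cfsg.Agent.Lib.LyDce Cfsg.Agent.Lib.FpVec Cfsg.Agent.Lib.LyV111 Cfsg.Agent.Lib.LyMultB

noncomputable def n0 : RG := PresentedGroup.of Gen.a

theorem is0 : Is n0 (M .a) := Is.letter .a rfl

noncomputable def n1 : RG := (PresentedGroup.of Gen.a)⁻¹

theorem is1 : Is n1 (I .a) := Is.letterI .a rfl

noncomputable def n2 : RG := PresentedGroup.of Gen.b

theorem is2 : Is n2 (M .b) := Is.letter .b rfl

noncomputable def n3 : RG := (PresentedGroup.of Gen.b)⁻¹

theorem is3 : Is n3 (I .b) := Is.letterI .b rfl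

noncomputable def n4 : RG := PresentedGroup.of Gen.c

theorem is4 : Is n4 (M .c) := Is.letter .c rfl

noncomputable def n5 : RG := (PresentedGroup.of Gen.c)⁻¹

theorem is5 : Is n5 (I .c) := Is.letterI .c rfl

noncomputable def n6 : RG := PresentedGroup.of Gen.d

theorem is6 : Is n6 (M .d) := Is.letter .d rfl

noncomputable def n7 : RG := (PresentedGroup.of Gen.d)⁻¹

theorem is7 : Is n7 (I .d) := Is.letterI .d rfl

noncomputable def n8 : RG := PresentedGroup.of Gen.z

theorem is8 : Is n8 (M .z) := Is.letter .z rfl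

noncomputable def n9 : RG := elOf Cfsg.Agent.TcData.Ly.Syl.U.X381_img

theorem is9 : Is n9 Cfsg.Agent.TcData.Ly.Syl.U.X381 := is_elOf _

noncomputable def n10 : RG := elOf Cfsg.Agent.TcData.Ly.Syl.U.X561_img

theorem is10 : Is n10 Cfsg.Agent.TcData.Ly.Syl.U.X561 := is_elOf _

noncomputable def n11 : RG := elOf Cfsg.Agent.TcData.Ly.Syl.U.X672_img

theorem is11 : Is n11 Cfsg.Agent.TcData.Ly.Syl.U.X672 := is_elOf _

noncomputable def n12 : RG := n11 * n10

theorem is12 : Is n12 C12 := Is.mul7 is11 is10 (by decide +kernel) c12_0 c12_16 c12_32 c12_48 c12_64 c12_80 c12_96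

noncomputable def n13 : RG := n12 * n9

theorem is13 : Is n13 C13 := Is.mul7 is12 is9 (by decide +kernel) c13_0 c13_16 c13_32 c13_48 c13_64 c13_80 c13_96

noncomputable def n14 : RG := n13 * n11

theorem is14 : Is n14 C14 := Is.mul7 is13 is11 (by decide +kernel) c14_0 c14_16 c14_32 c14_48 c14_64 c14_80 c14_96

noncomputable def n15 : RG := n14 * n9

theorem is15 : Is n15 C15 := Is.mul7 is14 is9 (by decide +kernel) c15_0 c15_16 c15_32 c15_48 c15_64 c15_80 c15_96

noncomputable def n16 : RG := n15 * n11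

theorem is16 : Is n16 C16 := Is.mul7 is15 is11 (by decide +kernel) c16_0 c16_16 c16_32 c16_48 c16_64 c16_80 c16_96

noncomputable def n17 : RG := n16 * n10

theorem is17 : Is n17 C17 := Is.mul7 is16 is10 (by decide +kernel) c17_0 c17_16 c17_32 c17_48 c17_64 c17_80 c17_96

noncomputable def n18 : RG := n17 * n9

theorem is18 : Is n18 C18 := Is.mul7 is17 is9 (by decide +kernel) c18_0 c18_16 c18_32 c18_48 c18_64 c18_80 c18_96

noncomputable def n19 : RG := n18 * n9

theorem is19 : Is n19 C19 := Is.mul7 is18 is9 (by decide +kernel) c19_0 c19_16 c19_32 c19_48 c19_64 c19_80 c19_96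

noncomputable def n20 : RG := n19 * n10

theorem is20 : Is n20 C20 := Is.mul7 is19 is10 (by decide +kernel) c20_0 c20_16 c20_32 c20_48 c20_64 c20_80 c20_96

noncomputable def n21 : RG := n20 * n9

theorem is21 : Is n21 C21 := Is.mul7 is20 is9 (by decide +kernel) c21_0 c21_16 c21_32 c21_48 c21_64 c21_80 c21_96

noncomputable def n22 : RG := n21 * n9

theorem is22 : Is n22 C22 := Is.mul7 is21 is9 (by decide +kernel) c22_0 c22_16 c22_32 c22_48 c22_64 c22_80 c22_96

noncomputable def n23 : RG := n6 * n1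

theorem is23 : Is n23 C23 := Is.mul7 is6 is1 (by decide +kernel) c23_0 c23_16 c23_32 c23_48 c23_64 c23_80 c23_96

noncomputable def n24 : RG := n23 * n22

theorem is24 : Is n24 C24 := Is.mul7 is23 is22 (by decide +kernel) c24_0 c24_16 c24_32 c24_48 c24_64 c24_80 c24_96

noncomputable def n25 : RG := n24 * n23

theorem is25 : Is n25 C25 := Is.mul7 is24 is23 (by decide +kernel) c25_0 c25_16 c25_32 c25_48 c25_64 c25_80 c25_96

noncomputable def n26 : RG := n7 * n2

theorem is26 : Is n26 C26 := Is.mul7 is7 is2 (by decide +kernel) c26_0 c26_16 c26_32 c26_48 c26_64 c26_80 c26_96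

noncomputable def n27 : RG := n26 * n1

theorem is27 : Is n27 C27 := Is.mul7 is26 is1 (by decide +kernel) c27_0 c27_16 c27_32 c27_48 c27_64 c27_80 c27_96

noncomputable def n28 : RG := (n27)⁻¹

theorem is28 : Is n28 C28 := Is.inv7 is27 (by decide +kernel) c28_0 c28_16 c28_32 c28_48 c28_64 c28_80 c28_96

noncomputable def n29 : RG := n27 * n22

theorem is29 : Is n29 C29 := Is.mul7 is27 is22 (by decide +kernel) c29_0 c29_16 c29_32 c29_48 c29_64 c29_80 c29_96

noncomputable def n30 : RG := n29 * n28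

theorem is30 : Is n30 C30 := Is.mul7 is29 is28 (by decide +kernel) c30_0 c30_16 c30_32 c30_48 c30_64 c30_80 c30_96

noncomputable def n31 : RG := n28 * n22

theorem is31 : Is n31 C31 := Is.mul7 is28 is22 (by decide +kernel) c31_0 c31_16 c31_32 c31_48 c31_64 c31_80 c31_96

noncomputable def n32 : RG := n31 * n27

theorem is32 : Is n32 C32 := Is.mul7 is31 is27 (by decide +kernel) c32_0 c32_16 c32_32 c32_48 c32_64 c32_80 c32_96

noncomputable def n33 : RG := n9 * n11

theorem is33 : Is n33 C33 := Is.mul7 is9 is11 (by decide +kernel) c33_0 c33_16 c33_32 c33_48 c33_64 c33_80 c33_96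

noncomputable def n34 : RG := n33 * n30

theorem is34 : Is n34 C34 := Is.mul7 is33 is30 (by decide +kernel) c34_0 c34_16 c34_32 c34_48 c34_64 c34_80 c34_96

noncomputable def n35 : RG := n34 * n25

theorem is35 : Is n35 C35 := Is.mul7 is34 is25 (by decide +kernel) c35_0 c35_16 c35_32 c35_48 c35_64 c35_80 c35_96

noncomputable def n36 : RG := n35 * n10

theorem is36 : Is n36 C36 := Is.mul7 is35 is10 (by decide +kernel) c36_0 c36_16 c36_32 c36_48 c36_64 c36_80 c36_96

noncomputable def n37 : RG := n36 * n30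

theorem is37 : Is n37 C37 := Is.mul7 is36 is30 (by decide +kernel) c37_0 c37_16 c37_32 c37_48 c37_64 c37_80 c37_96

noncomputable def n38 : RG := n37 * n25

theorem is38 : Is n38 C38 := Is.mul7 is37 is25 (by decide +kernel) c38_0 c38_16 c38_32 c38_48 c38_64 c38_80 c38_96

noncomputable def n39 : RG := n30 * n9

theorem is39 : Is n39 C39 := Is.mul7 is30 is9 (by decide +kernel) c39_0 c39_16 c39_32 c39_48 c39_64 c39_80 c39_96

noncomputable def n40 : RG := n39 * n11

theorem is40 : Is n40 C40 := Is.mul7 is39 is11 (by decide +kernel) c40_0 c40_16 c40_32 c40_48 c40_64 c40_80 c40_96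

noncomputable def n41 : RG := n40 * n32

theorem is41 : Is n41 C41 := Is.mul7 is40 is32 (by decide +kernel) c41_0 c41_16 c41_32 c41_48 c41_64 c41_80 c41_96

noncomputable def n42 : RG := n41 * n25

theorem is42 : Is n42 C42 := Is.mul7 is41 is25 (by decide +kernel) c42_0 c42_16 c42_32 c42_48 c42_64 c42_80 c42_96

noncomputable def n43 : RG := n42 * n32

theorem is43 : Is n43 C43 := Is.mul7 is42 is32 (by decide +kernel) c43_0 c43_16 c43_32 c43_48 c43_64 c43_80 c43_96

noncomputable def n44 : RG := n43 * n25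

theorem is44 : Is n44 C44 := Is.mul7 is43 is25 (by decide +kernel) c44_0 c44_16 c44_32 c44_48 c44_64 c44_80 c44_96

noncomputable def n45 : RG := n9 * n38

theorem is45 : Is n45 C45 := Is.mul7 is9 is38 (by decide +kernel) c45_0 c45_16 c45_32 c45_48 c45_64 c45_80 c45_96

noncomputable def n46 : RG := (n44)⁻¹

theorem is46 : Is n46 C46 := Is.inv7 is44 (by decide +kernel) c46_0 c46_16 c46_32 c46_48 c46_64 c46_80 c46_96

noncomputable def n47 : RG := n46 * n45

theorem is47 : Is n47 C47 := Is.mul7 is46 is45 (by decide +kernel) c47_0 c47_16 c47_32 c47_48 c47_64 c47_80 c47_96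

noncomputable def n48 : RG := n10 * n10

theorem is48 : Is n48 C48 := Is.mul7 is10 is10 (by decide +kernel) c48_0 c48_16 c48_32 c48_48 c48_64 c48_80 c48_96

noncomputable def n49 : RG := n39 * n32

theorem is49 : Is n49 C49 := Is.mul7 is39 is32 (by decide +kernel) c49_0 c49_16 c49_32 c49_48 c49_64 c49_80 c49_96

noncomputable def n50 : RG := n49 * n10

theorem is50 : Is n50 C50 := Is.mul7 is49 is10 (by decide +kernel) c50_0 c50_16 c50_32 c50_48 c50_64 c50_80 c50_96

noncomputable def n51 : RG := n50 * n10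

theorem is51 : Is n51 C51 := Is.mul7 is50 is10 (by decide +kernel) c51_0 c51_16 c51_32 c51_48 c51_64 c51_80 c51_96

noncomputable def n52 : RG := n51 * n25

theorem is52 : Is n52 C52 := Is.mul7 is51 is25 (by decide +kernel) c52_0 c52_16 c52_32 c52_48 c52_64 c52_80 c52_96

noncomputable def n53 : RG := n11 * n30

theorem is53 : Is n53 C53 := Is.mul7 is11 is30 (by decide +kernel) c53_0 c53_16 c53_32 c53_48 c53_64 c53_80 c53_96

noncomputable def n54 : RG := n53 * n25

theorem is54 : Is n54 C54 := Is.mul7 is53 is25 (by decide +kernel) c54_0 c54_16 c54_32 c54_48 c54_64 c54_80 c54_96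

noncomputable def n55 : RG := n54 * n30

theorem is55 : Is n55 C55 := Is.mul7 is54 is30 (by decide +kernel) c55_0 c55_16 c55_32 c55_48 c55_64 c55_80 c55_96

noncomputable def n56 : RG := n55 * n30

theorem is56 : Is n56 C56 := Is.mul7 is55 is30 (by decide +kernel) c56_0 c56_16 c56_32 c56_48 c56_64 c56_80 c56_96

noncomputable def n57 : RG := n25 * n52

theorem is57 : Is n57 C57 := Is.mul7 is25 is52 (by decide +kernel) c57_0 c57_16 c57_32 c57_48 c57_64 c57_80 c57_96

noncomputable def n58 : RG := (n56)⁻¹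

theorem is58 : Is n58 C58 := Is.inv7 is56 (by decide +kernel) c58_0 c58_16 c58_32 c58_48 c58_64 c58_80 c58_96

noncomputable def n59 : RG := n58 * n57

theorem is59 : Is n59 C59 := Is.mul7 is58 is57 (by decide +kernel) c59_0 c59_16 c59_32 c59_48 c59_64 c59_80 c59_96

noncomputable def n61 : RG := n5 * n5

theorem is61 : Is n61 C61 := Is.mul7 is5 is5 (by decide +kernel) c61_0 c61_16 c61_32 c61_48 c61_64 c61_80 c61_96

noncomputable def n62 : RG := n61 * n8

theorem is62 : Is n62 C62 := Is.mul7 is61 is8 (by decide +kernel) c62_0 c62_16 c62_32 c62_48 c62_64 c62_80 c62_96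

noncomputable def n63 : RG := n62 * n2

theorem is63 : Is n63 C63 := Is.mul7 is62 is2 (by decide +kernel) c63_0 c63_16 c63_32 c63_48 c63_64 c63_80 c63_96

noncomputable def n64 : RG := n63 * n5

theorem is64 : Is n64 C64 := Is.mul7 is63 is5 (by decide +kernel) c64_0 c64_16 c64_32 c64_48 c64_64 c64_80 c64_96

noncomputable def n65 : RG := n64 * n2

theorem is65 : Is n65 C65 := Is.mul7 is64 is2 (by decide +kernel) c65_0 c65_16 c65_32 c65_48 c65_64 c65_80 c65_96

noncomputable def n66 : RG := n65 * n6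

theorem is66 : Is n66 C66 := Is.mul7 is65 is6 (by decide +kernel) c66_0 c66_16 c66_32 c66_48 c66_64 c66_80 c66_96

noncomputable def n67 : RG := n66 * n8

theorem is67 : Is n67 C67 := Is.mul7 is66 is8 (by decide +kernel) c67_0 c67_16 c67_32 c67_48 c67_64 c67_80 c67_96

noncomputable def n68 : RG := n67 * n4

theorem is68 : Is n68 C68 := Is.mul7 is67 is4 (by decide +kernel) c68_0 c68_16 c68_32 c68_48 c68_64 c68_80 c68_96

noncomputable def n69 : RG := n68 * n1

theorem is69 : Is n69 C69 := Is.mul7 is68 is1 (by decide +kernel) c69_0 c69_16 c69_32 c69_48 c69_64 c69_80 c69_96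

noncomputable def n70 : RG := n32 * n30

theorem is70 : Is n70 C70 := Is.mul7 is32 is30 (by decide +kernel) c70_0 c70_16 c70_32 c70_48 c70_64 c70_80 c70_96

noncomputable def n71 : RG := n70 * n30

theorem is71 : Is n71 C71 := Is.mul7 is70 is30 (by decide +kernel) c71_0 c71_16 c71_32 c71_48 c71_64 c71_80 c71_96

noncomputable def n72 : RG := n71 * n25

theorem is72 : Is n72 C72 := Is.mul7 is71 is25 (by decide +kernel) c72_0 c72_16 c72_32 c72_48 c72_64 c72_80 c72_96

noncomputable def n73 : RG := n72 * n11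

theorem is73 : Is n73 C73 := Is.mul7 is72 is11 (by decide +kernel) c73_0 c73_16 c73_32 c73_48 c73_64 c73_80 c73_96

noncomputable def n74 : RG := n73 * n25

theorem is74 : Is n74 C74 := Is.mul7 is73 is25 (by decide +kernel) c74_0 c74_16 c74_32 c74_48 c74_64 c74_80 c74_96

noncomputable def n75 : RG := n74 * n25

theorem is75 : Is n75 C75 := Is.mul7 is74 is25 (by decide +kernel) c75_0 c75_16 c75_32 c75_48 c75_64 c75_80 c75_96

noncomputable def n76 : RG := (n75)⁻¹

theorem is76 : Is n76 C76 := Is.inv7 is75 (by decide +kernel) c76_0 c76_16 c76_32 c76_48 c76_64 c76_80 c76_96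

noncomputable def n77 : RG := n76 * n69

theorem is77 : Is n77 C77 := Is.mul7 is76 is69 (by decide +kernel) c77_0 c77_16 c77_32 c77_48 c77_64 c77_80 c77_96

noncomputable def n78 : RG := n8 * n6

theorem is78 : Is n78 C78 := Is.mul7 is8 is6 (by decide +kernel) c78_0 c78_16 c78_32 c78_48 c78_64 c78_80 c78_96

noncomputable def n79 : RG := n78 * n0

theorem is79 : Is n79 C79 := Is.mul7 is78 is0 (by decide +kernel) c79_0 c79_16 c79_32 c79_48 c79_64 c79_80 c79_96

noncomputable def n80 : RG := n79 * n4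

theorem is80 : Is n80 C80 := Is.mul7 is79 is4 (by decide +kernel) c80_0 c80_16 c80_32 c80_48 c80_64 c80_80 c80_96

noncomputable def n81 : RG := n80 * n1

theorem is81 : Is n81 C81 := Is.mul7 is80 is1 (by decide +kernel) c81_0 c81_16 c81_32 c81_48 c81_64 c81_80 c81_96

noncomputable def n82 : RG := n81 * n3

theorem is82 : Is n82 C82 := Is.mul7 is81 is3 (by decide +kernel) c82_0 c82_16 c82_32 c82_48 c82_64 c82_80 c82_96

noncomputable def n83 : RG := n82 * n5

theorem is83 : Is n83 C83 := Is.mul7 is82 is5 (by decide +kernel) c83_0 c83_16 c83_32 c83_48 c83_64 c83_80 c83_96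

noncomputable def n84 : RG := n83 * n3

theorem is84 : Is n84 C84 := Is.mul7 is83 is3 (by decide +kernel) c84_0 c84_16 c84_32 c84_48 c84_64 c84_80 c84_96

noncomputable def n85 : RG := n84 * n8

theorem is85 : Is n85 C85 := Is.mul7 is84 is8 (by decide +kernel) c85_0 c85_16 c85_32 c85_48 c85_64 c85_80 c85_96

noncomputable def n86 : RG := n85 * n7

theorem is86 : Is n86 C86 := Is.mul7 is85 is7 (by decide +kernel) c86_0 c86_16 c86_32 c86_48 c86_64 c86_80 c86_96

noncomputable def n87 : RG := n86 * n3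

theorem is87 : Is n87 C87 := Is.mul7 is86 is3 (by decide +kernel) c87_0 c87_16 c87_32 c87_48 c87_64 c87_80 c87_96

noncomputable def n88 : RG := n87 * n3

theorem is88 : Is n88 C88 := Is.mul7 is87 is3 (by decide +kernel) c88_0 c88_16 c88_32 c88_48 c88_64 c88_80 c88_96

noncomputable def n89 : RG := n25 * n25

theorem is89 : Is n89 C89 := Is.mul7 is25 is25 (by decide +kernel) c89_0 c89_16 c89_32 c89_48 c89_64 c89_80 c89_96

noncomputable def n90 : RG := n89 * n9

theorem is90 : Is n90 C90 := Is.mul7 is89 is9 (by decide +kernel) c90_0 c90_16 c90_32 c90_48 c90_64 c90_80 c90_96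

noncomputable def n91 : RG := n90 * n10

theorem is91 : Is n91 C91 := Is.mul7 is90 is10 (by decide +kernel) c91_0 c91_16 c91_32 c91_48 c91_64 c91_80 c91_96

noncomputable def n92 : RG := n91 * n25

theorem is92 : Is n92 C92 := Is.mul7 is91 is25 (by decide +kernel) c92_0 c92_16 c92_32 c92_48 c92_64 c92_80 c92_96

noncomputable def n93 : RG := n92 * n30

theorem is93 : Is n93 C93 := Is.mul7 is92 is30 (by decide +kernel) c93_0 c93_16 c93_32 c93_48 c93_64 c93_80 c93_96

noncomputable def n94 : RG := (n93)⁻¹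

theorem is94 : Is n94 C94 := Is.inv7 is93 (by decide +kernel) c94_0 c94_16 c94_32 c94_48 c94_64 c94_80 c94_96

noncomputable def n95 : RG := n94 * n88

theorem is95 : Is n95 C95 := Is.mul7 is94 is88 (by decide +kernel) c95_0 c95_16 c95_32 c95_48 c95_64 c95_80 c95_96

noncomputable def n96 : RG := n95 * n95

theorem is96 : Is n96 C96 := Is.mul7 is95 is95 (by decide +kernel) c96_0 c96_16 c96_32 c96_48 c96_64 c96_80 c96_96

noncomputable def n97 : RG := n96 * n95

theorem is97 : Is n97 C97 := Is.mul7 is96 is95 (by decide +kernel) c97_0 c97_16 c97_32 c97_48 c97_64 c97_80 c97_96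

noncomputable def n98 : RG := n97 * n95

theorem is98 : Is n98 C98 := Is.mul7 is97 is95 (by decide +kernel) c98_0 c98_16 c98_32 c98_48 c98_64 c98_80 c98_96

noncomputable def n99 : RG := n98 * n95

theorem is99 : Is n99 C99 := Is.mul7 is98 is95 (by decide +kernel) c99_0 c99_16 c99_32 c99_48 c99_64 c99_80 c99_96

noncomputable def n100 : RG := n95 * n77

theorem is100 : Is n100 C100 := Is.mul7 is95 is77 (by decide +kernel) c100_0 c100_16 c100_32 c100_48 c100_64 c100_80 c100_96

noncomputable def n101 : RG := n47 * n77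

theorem is101 : Is n101 C101 := Is.mul7 is47 is77 (by decide +kernel) c101_0 c101_16 c101_32 c101_48 c101_64 c101_80 c101_96

noncomputable def n102 : RG := n101 * n59

theorem is102 : Is n102 C102 := Is.mul7 is101 is59 (by decide +kernel) c102_0 c102_16 c102_32 c102_48 c102_64 c102_80 c102_96

noncomputable def n103 : RG := n102 * n47

theorem is103 : Is n103 C103 := Is.mul7 is102 is47 (by decide +kernel) c103_0 c103_16 c103_32 c103_48 c103_64 c103_80 c103_96

noncomputable def n114 : RG := (n100)⁻¹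

theorem is114 : Is n114 C114 := Is.inv7 is100 (by decide +kernel) c114_0 c114_16 c114_32 c114_48 c114_64 c114_80 c114_96

noncomputable def n115 : RG := n99 * n100

theorem is115 : Is n115 C115 := Is.mul7 is99 is100 (by decide +kernel) c115_0 c115_16 c115_32 c115_48 c115_64 c115_80 c115_96

noncomputable def n116 : RG := n99 * n114

theorem is116 : Is n116 C116 := Is.mul7 is99 is114 (by decide +kernel) c116_0 c116_16 c116_32 c116_48 c116_64 c116_80 c116_96

noncomputable def n117 : RG := n116 * n115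

theorem is117 : Is n117 C117 := Is.mul7 is116 is115 (by decide +kernel) c117_0 c117_16 c117_32 c117_48 c117_64 c117_80 c117_96

noncomputable def n118 : RG := n100 * n117

theorem is118 : Is n118 C118 := Is.mul7 is100 is117 (by decide +kernel) c118_0 c118_16 c118_32 c118_48 c118_64 c118_80 c118_96

noncomputable def n119 : RG := (n103)⁻¹

theorem is119 : Is n119 C119 := Is.inv7 is103 (by decide +kernel) c119_0 c119_16 c119_32 c119_48 c119_64 c119_80 c119_96

noncomputable def n120 : RG := n99 * n103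

theorem is120 : Is n120 C120 := Is.mul7 is99 is103 (by decide +kernel) c120_0 c120_16 c120_32 c120_48 c120_64 c120_80 c120_96

noncomputable def n121 : RG := n99 * n119

theorem is121 : Is n121 C121 := Is.mul7 is99 is119 (by decide +kernel) c121_0 c121_16 c121_32 c121_48 c121_64 c121_80 c121_96

noncomputable def n122 : RG := n121 * n120

theorem is122 : Is n122 C122 := Is.mul7 is121 is120 (by decide +kernel) c122_0 c122_16 c122_32 c122_48 c122_64 c122_80 c122_96

noncomputable def n123 : RG := n103 * n122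

theorem is123 : Is n123 C123 := Is.mul7 is103 is122 (by decide +kernel) c123_0 c123_16 c123_32 c123_48 c123_64 c123_80 c123_96

noncomputable def n124 : RG := n99 * n10

theorem is124 : Is n124 C124 := Is.mul7 is99 is10 (by decide +kernel) c124_0 c124_16 c124_32 c124_48 c124_64 c124_80 c124_96

noncomputable def n125 : RG := n99 * n48

theorem is125 : Is n125 C125 := Is.mul7 is99 is48 (by decide +kernel) c125_0 c125_16 c125_32 c125_48 c125_64 c125_80 c125_96

noncomputable def n126 : RG := n125 * n124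

theorem is126 : Is n126 C126 := Is.mul7 is125 is124 (by decide +kernel) c126_0 c126_16 c126_32 c126_48 c126_64 c126_80 c126_96

noncomputable def n127 : RG := n10 * n126

theorem is127 : Is n127 C127 := Is.mul7 is10 is126 (by decide +kernel) c127_0 c127_16 c127_32 c127_48 c127_64 c127_80 c127_96

noncomputable def n128 : RG := n123 * n123

theorem is128 : Is n128 C128 := Is.mul7 is123 is123 (by decide +kernel) c128_0 c128_16 c128_32 c128_48 c128_64 c128_80 c128_96

noncomputable def n129 : RG := n123 * n128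

theorem is129 : Is n129 C129 := Is.mul7 is123 is128 (by decide +kernel) c129_0 c129_16 c129_32 c129_48 c129_64 c129_80 c129_96

noncomputable def n132 : RG := (n118)⁻¹

theorem is132 : Is n132 C132 := Is.inv7 is118 (by decide +kernel) c132_0 c132_16 c132_32 c132_48 c132_64 c132_80 c132_96

noncomputable def n133 : RG := n118 * n9

theorem is133 : Is n133 C133 := Is.mul7 is118 is9 (by decide +kernel) c133_0 c133_16 c133_32 c133_48 c133_64 c133_80 c133_96

noncomputable def n134 : RG := n133 * n132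

theorem is134 : Is n134 C134 := Is.mul7 is133 is132 (by decide +kernel) c134_0 c134_16 c134_32 c134_48 c134_64 c134_80 c134_96

noncomputable def n135 : RG := n118 * n134

theorem is135 : Is n135 C135 := Is.mul7 is118 is134 (by decide +kernel) c135_0 c135_16 c135_32 c135_48 c135_64 c135_80 c135_96

noncomputable def n136 : RG := n135 * n132

theorem is136 : Is n136 C136 := Is.mul7 is135 is132 (by decide +kernel) c136_0 c136_16 c136_32 c136_48 c136_64 c136_80 c136_96

noncomputable def n137 : RG := n118 * n136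

theorem is137 : Is n137 C137 := Is.mul7 is118 is136 (by decide +kernel) c137_0 c137_16 c137_32 c137_48 c137_64 c137_80 c137_96

noncomputable def n138 : RG := n137 * n132

theorem is138 : Is n138 C138 := Is.mul7 is137 is132 (by decide +kernel) c138_0 c138_16 c138_32 c138_48 c138_64 c138_80 c138_96

noncomputable def n139 : RG := n118 * n138

theorem is139 : Is n139 C139 := Is.mul7 is118 is138 (by decide +kernel) c139_0 c139_16 c139_32 c139_48 c139_64 c139_80 c139_96

noncomputable def n140 : RG := n139 * n132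

theorem is140 : Is n140 C140 := Is.mul7 is139 is132 (by decide +kernel) c140_0 c140_16 c140_32 c140_48 c140_64 c140_80 c140_96

noncomputable abbrev N_g : RG := n118

theorem is_g : Is N_g C118 := is118

noncomputable abbrev N_t : RG := n99

theorem is_t : Is N_t C99 := is99

noncomputable abbrev N_y : RG := n129

theorem is_y : Is N_y C129 := is129

noncomputable abbrev N_e : RG := n127

theorem is_e : Is N_e C127 := is127

noncomputable abbrev N_gi : RG := n132

theorem is_gi : Is N_gi C132 := is132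

noncomputable abbrev N_v0 : RG := n9

theorem is_v0 : Is N_v0 Cfsg.Agent.TcData.Ly.Syl.U.X381 := is9

noncomputable abbrev N_v1 : RG := n134

theorem is_v1 : Is N_v1 C134 := is134

noncomputable abbrev N_v2 : RG := n136

theorem is_v2 : Is N_v2 C136 := is136

noncomputable abbrev N_v3 : RG := n138

theorem is_v3 : Is N_v3 C138 := is138

noncomputable abbrev N_v4 : RG := n140

theorem is_v4 : Is N_v4 C140 := is140

noncomputable abbrev N_U_X381 : RG := n9

theorem is_U_X381 : Is N_U_X381 Cfsg.Agent.TcData.Ly.Syl.U.X381 := is9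

noncomputable abbrev N_U_X561 : RG := n10

theorem is_U_X561 : Is N_U_X561 Cfsg.Agent.TcData.Ly.Syl.U.X561 := is10

noncomputable abbrev N_U_X672 : RG := n11

theorem is_U_X672 : Is N_U_X672 Cfsg.Agent.TcData.Ly.Syl.U.X672 := is11

theorem r0 : rho ([N_g,N_v4,N_gi] : List RG).prod = rho ([N_v0,N_v2,N_v2,N_v3,N_v4,N_v4] : List RG).prod := word_eq (Ls := [C118,C140,C132]) (Ms := [Cfsg.Agent.TcData.Ly.Syl.U.X381,C136,C136,C138,C140,C140]) (.cons is_g (.cons is_v4 (.cons is_gi (.nil)))) (.cons is_v0 (.cons is_v2 (.cons is_v2 (.cons is_v3 (.cons is_v4 (.cons is_v4 (.nil))))))) w0_0 w0_16 w0_32 w0_48 w0_64 w0_80 w0_96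

theorem r1 : rho ([N_v0,N_v1] : List RG).prod = rho ([N_v1,N_v0] : List RG).prod := word_eq (Ls := [Cfsg.Agent.TcData.Ly.Syl.U.X381,C134]) (Ms := [C134,Cfsg.Agent.TcData.Ly.Syl.U.X381]) (.cons is_v0 (.cons is_v1 (.nil))) (.cons is_v1 (.cons is_v0 (.nil))) w1_0 w1_16 w1_32 w1_48 w1_64 w1_80 w1_96

theorem r2 : rho ([N_v0,N_v2] : List RG).prod = rho ([N_v2,N_v0] : List RG).prod := word_eq (Ls := [Cfsg.Agent.TcData.Ly.Syl.U.X381,C136]) (Ms := [C136,Cfsg.Agent.TcData.Ly.Syl.U.X381]) (.cons is_v0 (.cons is_v2 (.nil))) (.cons is_v2 (.cons is_v0 (.nil))) w2_0 w2_16 w2_32 w2_48 w2_64 w2_80 w2_96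

theorem r3 : rho ([N_v0,N_v3] : List RG).prod = rho ([N_v3,N_v0] : List RG).prod := word_eq (Ls := [Cfsg.Agent.TcData.Ly.Syl.U.X381,C138]) (Ms := [C138,Cfsg.Agent.TcData.Ly.Syl.U.X381]) (.cons is_v0 (.cons is_v3 (.nil))) (.cons is_v3 (.cons is_v0 (.nil))) w3_0 w3_16 w3_32 w3_48 w3_64 w3_80 w3_96

theorem r4 : rho ([N_v0,N_v4] : List RG).prod = rho ([N_v4,N_v0] : List RG).prod := word_eq (Ls := [Cfsg.Agent.TcData.Ly.Syl.U.X381,C140]) (Ms := [C140,Cfsg.Agent.TcData.Ly.Syl.U.X381]) (.cons is_v0 (.cons is_v4 (.nil))) (.cons is_v4 (.cons is_v0 (.nil))) w4_0 w4_16 w4_32 w4_48 w4_64 w4_80 w4_96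

theorem r5 : rho ([N_t,N_t] : List RG).prod = rho ([] : List RG).prod := word_eq (Ls := [C99,C99]) (Ms := []) (.cons is_t (.cons is_t (.nil))) (.nil) w5_0 w5_16 w5_32 w5_48 w5_64 w5_80 w5_96

theorem r6 : rho ([N_t,N_v0,N_t,N_v0] : List RG).prod = rho ([] : List RG).prod := word_eq (Ls := [C99,Cfsg.Agent.TcData.Ly.Syl.U.X381,C99,Cfsg.Agent.TcData.Ly.Syl.U.X381]) (Ms := []) (.cons is_t (.cons is_v0 (.cons is_t (.cons is_v0 (.nil))))) (.nil) w6_0 w6_16 w6_32 w6_48 w6_64 w6_80 w6_96

theorem r7 : rho ([N_t,N_g] : List RG).prod = rho ([N_g,N_t] : List RG).prod := word_eq (Ls := [C99,C118]) (Ms := [C118,C99]) (.cons is_t (.cons is_g (.nil))) (.cons is_g (.cons is_t (.nil))) w7_0 w7_16 w7_32 w7_48 w7_64 w7_80 w7_96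

theorem r8 : rho ([N_t,N_e] : List RG).prod = rho ([N_e,N_t] : List RG).prod := word_eq (Ls := [C99,C127]) (Ms := [C127,C99]) (.cons is_t (.cons is_e (.nil))) (.cons is_e (.cons is_t (.nil))) w8_0 w8_16 w8_32 w8_48 w8_64 w8_80 w8_96

theorem r9 : rho ([N_t,N_y] : List RG).prod = rho ([N_y,N_t] : List RG).prod := word_eq (Ls := [C99,C129]) (Ms := [C129,C99]) (.cons is_t (.cons is_y (.nil))) (.cons is_y (.cons is_t (.nil))) w9_0 w9_16 w9_32 w9_48 w9_64 w9_80 w9_96

theorem r10 : rho ([N_y,N_y] : List RG).prod = rho ([] : List RG).prod := word_eq (Ls := [C129,C129]) (Ms := []) (.cons is_y (.cons is_y (.nil))) (.nil) w10_0 w10_16 w10_32 w10_48 w10_64 w10_80 w10_96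

theorem r11 : rho ([N_e,N_y,N_e,N_y] : List RG).prod = rho ([N_y,N_e,N_y,N_e] : List RG).prod := word_eq (Ls := [C127,C129,C127,C129]) (Ms := [C129,C127,C129,C127]) (.cons is_e (.cons is_y (.cons is_e (.cons is_y (.nil))))) (.cons is_y (.cons is_e (.cons is_y (.cons is_e (.nil))))) w11_0 w11_16 w11_32 w11_48 w11_64 w11_80 w11_96

theorem r12 : rho ([N_e,N_v0] : List RG).prod = rho ([N_v1,N_v1,N_v2,N_v3,N_v3,N_v4,N_v4,N_e] : List RG).prod := word_eq (Ls := [C127,Cfsg.Agent.TcData.Ly.Syl.U.X381]) (Ms := [C134,C134,C136,C138,C138,C140,C140,C127]) (.cons is_e (.cons is_v0 (.nil))) (.cons is_v1 (.cons is_v1 (.cons is_v2 (.cons is_v3 (.cons is_v3 (.cons is_v4 (.cons is_v4 (.cons is_e (.nil))))))))) w12_0 w12_16 w12_32 w12_48 w12_64 w12_80 w12_96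

theorem r13 : rho ([N_e,N_v1] : List RG).prod = rho ([N_v2,N_e] : List RG).prod := word_eq (Ls := [C127,C134]) (Ms := [C136,C127]) (.cons is_e (.cons is_v1 (.nil))) (.cons is_v2 (.cons is_e (.nil))) w13_0 w13_16 w13_32 w13_48 w13_64 w13_80 w13_96

theorem r14 : rho ([N_e,N_v2] : List RG).prod = rho ([N_v0,N_v0,N_v2,N_v3,N_v3,N_v4,N_e] : List RG).prod := word_eq (Ls := [C127,C136]) (Ms := [Cfsg.Agent.TcData.Ly.Syl.U.X381,Cfsg.Agent.TcData.Ly.Syl.U.X381,C136,C138,C138,C140,C127]) (.cons is_e (.cons is_v2 (.nil))) (.cons is_v0 (.cons is_v0 (.cons is_v2 (.cons is_v3 (.cons is_v3 (.cons is_v4 (.cons is_e (.nil)))))))) w14_0 w14_16 w14_32 w14_48 w14_64 w14_80 w14_96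

theorem r15 : rho ([N_e,N_v3] : List RG).prod = rho ([N_v0,N_v0,N_e] : List RG).prod := word_eq (Ls := [C127,C138]) (Ms := [Cfsg.Agent.TcData.Ly.Syl.U.X381,Cfsg.Agent.TcData.Ly.Syl.U.X381,C127]) (.cons is_e (.cons is_v3 (.nil))) (.cons is_v0 (.cons is_v0 (.cons is_e (.nil)))) w15_0 w15_16 w15_32 w15_48 w15_64 w15_80 w15_96

theorem r16 : rho ([N_e,N_v4] : List RG).prod = rho ([N_v4,N_e] : List RG).prod := word_eq (Ls := [C127,C140]) (Ms := [C140,C127]) (.cons is_e (.cons is_v4 (.nil))) (.cons is_v4 (.cons is_e (.nil))) w16_0 w16_16 w16_32 w16_48 w16_64 w16_80 w16_96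

theorem r17 : rho ([N_y,N_v0] : List RG).prod = rho ([N_v0,N_v0,N_v2,N_v3,N_v3,N_v4,N_y] : List RG).prod := word_eq (Ls := [C129,Cfsg.Agent.TcData.Ly.Syl.U.X381]) (Ms := [Cfsg.Agent.TcData.Ly.Syl.U.X381,Cfsg.Agent.TcData.Ly.Syl.U.X381,C136,C138,C138,C140,C129]) (.cons is_y (.cons is_v0 (.nil))) (.cons is_v0 (.cons is_v0 (.cons is_v2 (.cons is_v3 (.cons is_v3 (.cons is_v4 (.cons is_y (.nil)))))))) w17_0 w17_16 w17_32 w17_48 w17_64 w17_80 w17_96

theorem r18 : rho ([N_y,N_v1] : List RG).prod = rho ([N_v1,N_v1,N_y] : List RG).prod := word_eq (Ls := [C129,C134]) (Ms := [C134,C134,C129]) (.cons is_y (.cons is_v1 (.nil))) (.cons is_v1 (.cons is_v1 (.cons is_y (.nil)))) w18_0 w18_16 w18_32 w18_48 w18_64 w18_80 w18_96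

theorem r19 : rho ([N_y,N_v2] : List RG).prod = rho ([N_v0,N_v1,N_v1,N_v2,N_v2,N_v3,N_v3,N_v4,N_y] : List RG).prod := word_eq (Ls := [C129,C136]) (Ms := [Cfsg.Agent.TcData.Ly.Syl.U.X381,C134,C134,C136,C136,C138,C138,C140,C129]) (.cons is_y (.cons is_v2 (.nil))) (.cons is_v0 (.cons is_v1 (.cons is_v1 (.cons is_v2 (.cons is_v2 (.cons is_v3 (.cons is_v3 (.cons is_v4 (.cons is_y (.nil)))))))))) w19_0 w19_16 w19_32 w19_48 w19_64 w19_80 w19_96

theorem r20 : rho ([N_y,N_v3] : List RG).prod = rho ([N_v3,N_v3,N_y] : List RG).prod := word_eq (Ls := [C129,C138]) (Ms := [C138,C138,C129]) (.cons is_y (.cons is_v3 (.nil))) (.cons is_v3 (.cons is_v3 (.cons is_y (.nil)))) w20_0 w20_16 w20_32 w20_48 w20_64 w20_80 w20_96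

theorem r21 : rho ([N_y,N_v4] : List RG).prod = rho ([N_v0,N_v0,N_v1,N_v2,N_v2,N_v3,N_v3,N_y] : List RG).prod := word_eq (Ls := [C129,C140]) (Ms := [Cfsg.Agent.TcData.Ly.Syl.U.X381,Cfsg.Agent.TcData.Ly.Syl.U.X381,C134,C136,C136,C138,C138,C129]) (.cons is_y (.cons is_v4 (.nil))) (.cons is_v0 (.cons is_v0 (.cons is_v1 (.cons is_v2 (.cons is_v2 (.cons is_v3 (.cons is_v3 (.cons is_y (.nil))))))))) w21_0 w21_16 w21_32 w21_48 w21_64 w21_80 w21_96

theorem r22 : rho ([N_U_X561] : List RG).prod = rho ([N_v0,N_v0,N_v1,N_v2,N_v2,N_v3,N_v3,N_v4,N_e] : List RG).prod := word_eq (Ls := [Cfsg.Agent.TcData.Ly.Syl.U.X561]) (Ms := [Cfsg.Agent.TcData.Ly.Syl.U.X381,Cfsg.Agent.TcData.Ly.Syl.U.X381,C134,C136,C136,C138,C138,C140,C127]) (.cons is_U_X561 (.nil)) (.cons is_v0 (.cons is_v0 (.cons is_v1 (.cons is_v2 (.cons is_v2 (.cons is_v3 (.cons is_v3 (.cons is_v4 (.cons is_e (.nil)))))))))) w22_0 w22_16 w22_32 w22_48 w22_64 w22_80 w22_96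

theorem r23 : rho ([N_U_X672] : List RG).prod = rho ([N_v4,N_v4,N_e,N_y,N_e,N_y] : List RG).prod := word_eq (Ls := [Cfsg.Agent.TcData.Ly.Syl.U.X672]) (Ms := [C140,C140,C127,C129,C127,C129]) (.cons is_U_X672 (.nil)) (.cons is_v4 (.cons is_v4 (.cons is_e (.cons is_y (.cons is_e (.cons is_y (.nil))))))) w23_0 w23_16 w23_32 w23_48 w23_64 w23_80 w23_96


end Cfsg.Agent.TcData.LyMT
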